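/-
Tensor powers of symplectic spaces: pure tensors of matrices and the blocks on one factor.
-/
import Cfsg.Agent.Geo.TensorPow.Pres

set_option autoImplicit false
set_option linter.unusedSectionVars false

namespace CfsgLib.Geo.TensorPow

open Matrix CfsgLib.Aschbacher
open scoped MatrixGroups

variable {F : Type*} [Field F] {t m : ℕ}

lemma tens_update_apply (a : Fin t → Matrix (Fin m) (Fin m) F) (i : Fin t) (A : Matrix (Fin m) (Fin m) F)
    (x y : Fin t → Fin m) :
    (tens (Function.update a i A) : Mt t m F) x y = A (x i) (y i) * ∏ l ∈ Finset.univ.erase i, a l (x l) (y l) := by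
  simp only [tens, Matrix.of_apply]
  rw [← Finset.mul_prod_erase _ _ (Finset.mem_univ i), Function.update_self]
  congr 1
  exact Finset.prod_congr rfl fun l hl => by rw [Function.update_of_ne (Finset.ne_of_mem_erase hl)]

/-- A pure tensor as a linear map in one factor. -/
def tensL (a : Fin t → Matrix (Fin m) (Fin m) F) (i : Fin t) : Matrix (Fin m) (Fin m) F →ₗ[F] Mt t m F where
  toFun A := tens (Function.update a i A)
  map_add' A B := by ext x y; simp [tens_update_apply, add_mul]
  map_smul' c A := by ext x y; simp [tens_update_apply, mul_assoc]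

lemma tens_update_add (a : Fin t → Matrix (Fin m) (Fin m) F) (i : Fin t) (A B : Matrix (Fin m) (Fin m) F) :
    (tens (Function.update a i (A + B)) : Mt t m F) = tens (Function.update a i A) + tens (Function.update a i B) :=
  map_add (tensL a i) A B

lemma tens_update_smul (a : Fin t → Matrix (Fin m) (Fin m) F) (i : Fin t) (c : F) (A : Matrix (Fin m) (Fin m) F) :
    (tens (Function.update a i (c • A)) : Mt t m F) = c • tens (Function.update a i A) :=
  map_smul (tensL a i) c A

lemma tens_update_sum {α : Type*} (a : Fin t → Matrix (Fin m) (Fin m) F) (i : Fin t) (s : Finset α)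
    (A : α → Matrix (Fin m) (Fin m) F) :
    (tens (Function.update a i (∑ x ∈ s, A x)) : Mt t m F) = ∑ x ∈ s, tens (Function.update a i (A x)) :=
  map_sum (tensL a i) A s

lemma slot_mul_tens (i : Fin t) (A : Matrix (Fin m) (Fin m) F) (a : Fin t → Matrix (Fin m) (Fin m) F) :
    slot i A * tens a = (tens (Function.update a i (A * a i)) : Mt t m F) := by
  rw [slot, tens_mul]
  congr 1
  funext l
  rcases eq_or_ne l i with rfl | hl
  · simp
  · simp [Function.update_of_ne hl]

lemma tens_mul_slot_eq (i : Fin t) (A : Matrix (Fin m) (Fin m) F) (a : Fin t → Matrix (Fin m) (Fin m) F) :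
    tens a * slot i A = (tens (Function.update a i (a i * A)) : Mt t m F) := by
  rw [slot, tens_mul]
  congr 1
  funext l
  rcases eq_or_ne l i with rfl | hl
  · simp
  · simp [Function.update_of_ne hl]

lemma tens_split (i : Fin t) (a : Fin t → Matrix (Fin m) (Fin m) F) :
    (tens a : Mt t m F) = slot i (a i) * tens (Function.update a i 1) := by
  rw [slot_mul_tens, Function.update_idem, Function.update_self, mul_one, Function.update_eq_self]

lemma com_tens {i : Fin t} {a : Fin t → Matrix (Fin m) (Fin m) F} (h : a i = 1) : Com i (tens a : Mt t m F) := by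
  intro p q
  rw [eu, slot_mul_tens, tens_mul_slot_eq, h, mul_one, one_mul]

lemma tens_comm {a : Fin t → Matrix (Fin m) (Fin m) F} {C : Mt t m F} (h : ∀ l, a l ≠ 1 → Com l C) :
    tens a * C = C * tens a := by
  classical
  suffices hs : ∀ s : Finset (Fin t), (tens (s.piecewise a fun _ => 1) : Mt t m F) * C =
      C * tens (s.piecewise a fun _ => 1) by simpa using hs Finset.univ
  intro s
  induction s using Finset.induction_on with
  | empty => simp [tens_one]
  | insert l s hl ih =>
    by_cases hal : a l = 1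
    · rw [Finset.piecewise_insert, Function.update_eq_self_iff.2 (by simp [hl, hal])]
      exact ih
    · rw [tens_split l, Finset.piecewise_insert, Function.update_self, Function.update_idem,
        Function.update_eq_self_iff.2 (by simp [hl]), mul_assoc, ih, ← mul_assoc,
        (h l hal).slot_comm, mul_assoc]

lemma tens_ne_zero {a : Fin t → Matrix (Fin m) (Fin m) F} (h : ∀ l, a l ≠ 0) : (tens a : Mt t m F) ≠ 0 := by
  intro h0
  have hx : ∀ l, ∃ p q, a l p q ≠ 0 := fun l => by
    by_contra hc; push Not at hc; exact h l (Matrix.ext hc)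
  choose p q hpq using hx
  have h1 := congrFun (congrFun h0 p) q
  simp only [tens, Matrix.of_apply, Matrix.zero_apply] at h1
  exact Finset.prod_ne_zero_iff.2 (fun l _ => hpq l) h1

lemma slot_transpose (i : Fin t) (A : Matrix (Fin m) (Fin m) F) : (slot i A : Mt t m F)ᵀ = slot i Aᵀ := by
  rw [slot, tens_transpose, slot]
  congr 1
  funext l
  rcases eq_or_ne l i with rfl | hl
  · simp
  · simp [Function.update_of_ne hl]

lemma cmp_add (i : Fin t) (p q : Fin m) (X Y : Mt t m F) : cmp i p q (X + Y) = cmp i p q X + cmp i p q Y := by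
  simp [cmp, mul_add, add_mul, Finset.sum_add_distrib]

lemma cmp_smul (i : Fin t) (p q : Fin m) (c : F) (X : Mt t m F) : cmp i p q (c • X) = c • cmp i p q X := by
  simp [cmp, Finset.smul_sum]

lemma cmp_eu_mul {i : Fin t} {B : Mt t m F} (hB : Com i B) (p q a b : Fin m) :
    cmp i p q (eu i a b * B) = if p = a ∧ q = b then B else 0 := by
  simp only [cmp]
  rcases eq_or_ne p a with rfl | hp
  swap
  · rw [if_neg fun h => hp h.1]
    exact Finset.sum_eq_zero fun r _ => by rw [← mul_assoc, eu_mul_ne i hp, zero_mul, zero_mul]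
  rcases eq_or_ne q b with rfl | hq
  swap
  · rw [if_neg fun h => hq h.2]
    exact Finset.sum_eq_zero fun r _ => by
      rw [← mul_assoc, eu_mul, mul_assoc, ← hB, ← mul_assoc, eu_mul_ne i hq.symm, zero_mul]
  rw [if_pos ⟨rfl, rfl⟩]
  have : ∀ r, eu i r p * (eu i p q * B) * eu i q r = eu i r r * B := fun r => by
    rw [← mul_assoc, eu_mul, mul_assoc, ← hB, ← mul_assoc, eu_mul]
  rw [Finset.sum_congr rfl fun r _ => this r, ← Finset.sum_mul, sum_eu, one_mul]

lemma cmp_one (i : Fin t) (p q : Fin m) : cmp i p q (1 : Mt t m F) = if p = q then 1 else 0 := by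
  simp only [cmp, mul_one]
  rcases eq_or_ne p q with rfl | h
  · simp [eu_mul, sum_eu]
  · rw [if_neg h]
    exact Finset.sum_eq_zero fun r _ => eu_mul_ne i h _ _

lemma cmp_mul (i : Fin t) (p q : Fin m) (X Y : Mt t m F) :
    cmp i p q (X * Y) = ∑ s, cmp i p s X * cmp i s q Y := by
  have h : ∀ s, cmp i p s X * cmp i s q Y = ∑ r, eu i r p * X * eu i s s * Y * eu i q r := fun s => by
    simp only [cmp, Finset.sum_mul, Finset.mul_sum]
    refine Finset.sum_congr rfl fun r _ => ?_
    rw [Finset.sum_eq_single r]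
    · simp only [mul_assoc, eu_mul']
    · intro r' _ hr'
      simp only [mul_assoc, eu_mul_ne' i hr', eu_mul_ne' i hr'.symm, mul_zero]
    · simp
  rw [Finset.sum_congr rfl fun s _ => h s, Finset.sum_comm, cmp]
  refine Finset.sum_congr rfl fun r _ => ?_
  simp only [← Finset.sum_mul, ← Finset.mul_sum, sum_eu, mul_one]
  simp only [mul_assoc]

lemma Com.cmp {i l : Fin t} (h : l ≠ i) {X : Mt t m F} (hX : Com l X) (p q : Fin m) :
    Com l (TensorPow.cmp i p q X) :=
  com_sum _ fun _ _ => ((com_eu h _ _).mul hX).mul (com_eu h _ _)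

/-! ### Two halves of the coordinates of a factor -/

/-- The coordinates of a factor in two halves. -/
abbrev hv (r : ℕ) : Fin r ⊕ Fin r ≃ Fin (r + r) := finSumFinEquiv

variable {r : ℕ}

/-- A matrix in four blocks. -/
def bm (A B C D : Matrix (Fin r) (Fin r) F) : Matrix (Fin (r + r)) (Fin (r + r)) F :=
  (Matrix.fromBlocks A B C D).submatrix (hv r).symm (hv r).symm

lemma bm_apply (A B C D : Matrix (Fin r) (Fin r) F) (u v : Fin r ⊕ Fin r) :
    bm A B C D (hv r u) (hv r v) = Matrix.fromBlocks A B C D u v := by simp [bm]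

lemma bm_mul (A B C D A' B' C' D' : Matrix (Fin r) (Fin r) F) :
    bm A B C D * bm A' B' C' D' = bm (A * A' + B * C') (A * B' + B * D') (C * A' + D * C') (C * B' + D * D') := by
  rw [bm, bm, bm, Matrix.submatrix_mul_equiv, Matrix.fromBlocks_multiply]

lemma bm_one : bm (1 : Matrix (Fin r) (Fin r) F) 0 0 1 = 1 := by
  rw [bm, Matrix.fromBlocks_one, Matrix.submatrix_one_equiv]

lemma bm_transpose (A B C D : Matrix (Fin r) (Fin r) F) : (bm A B C D)ᵀ = bm Aᵀ Cᵀ Bᵀ Dᵀ := by
  rw [bm, bm, Matrix.transpose_submatrix, Matrix.fromBlocks_transpose]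

lemma bm_add (A B C D A' B' C' D' : Matrix (Fin r) (Fin r) F) :
    bm A B C D + bm A' B' C' D' = bm (A + A') (B + B') (C + C') (D + D') := by
  rw [bm, bm, bm, ← Matrix.fromBlocks_add]; rfl

lemma bm_smul (c : F) (A B C D : Matrix (Fin r) (Fin r) F) :
    c • bm A B C D = bm (c • A) (c • B) (c • C) (c • D) := by
  rw [bm, bm, ← Matrix.fromBlocks_smul]; rfl

lemma bm_neg (A B C D : Matrix (Fin r) (Fin r) F) : -bm A B C D = bm (-A) (-B) (-C) (-D) := by
  rw [bm, bm, ← Matrix.fromBlocks_neg]; rfl

lemma bm_inj {A B C D A' B' C' D' : Matrix (Fin r) (Fin r) F} (h : bm A B C D = bm A' B' C' D') :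
    A = A' ∧ B = B' ∧ C = C' ∧ D = D' :=
  Matrix.fromBlocks_inj.1 ((Matrix.reindex (hv r) (hv r)).injective h)

lemma exists_bm (X : Matrix (Fin (r + r)) (Fin (r + r)) F) : ∃ A B C D, X = bm A B C D := by
  refine ⟨(X.submatrix (hv r) (hv r)).toBlocks₁₁, (X.submatrix (hv r) (hv r)).toBlocks₁₂,
    (X.submatrix (hv r) (hv r)).toBlocks₂₁, (X.submatrix (hv r) (hv r)).toBlocks₂₂, ?_⟩
  rw [bm, Matrix.fromBlocks_toBlocks, Matrix.submatrix_submatrix]
  simp

/-- The blocks of a matrix on the factor `i`. -/
def rep (i : Fin t) : Mt t (r + r) F →+* Matrix (Fin r ⊕ Fin r) (Fin r ⊕ Fin r) (Mt t (r + r) F) where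
  toFun X := Matrix.of fun u v => cmp i (hv r u) (hv r v) X
  map_one' := by
    ext1; ext1
    rename_i u v
    simp [cmp_one, Matrix.one_apply]
  map_mul' X Y := by
    refine Matrix.ext fun u v => ?_
    rw [Matrix.of_apply, cmp_mul, Matrix.mul_apply]
    exact Fintype.sum_equiv (hv r).symm _ _ fun s => by simp
  map_zero' := Matrix.ext fun u v => by simp [cmp]
  map_add' X Y := Matrix.ext fun u v => by simp [cmp_add]

lemma rep_apply (i : Fin t) (X : Mt t (r + r) F) (u v : Fin r ⊕ Fin r) :
    rep i X u v = cmp i (hv r u) (hv r v) X := rfl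

lemma com_rep (i : Fin t) (X : Mt t (r + r) F) (u v : Fin r ⊕ Fin r) : Com i (rep i X u v) := com_cmp i _ _ _

lemma rep_injective (i : Fin t) : Function.Injective (rep i : Mt t (r + r) F → _) := fun X Y h => by
  have hc : ∀ p q, cmp i p q X = cmp i p q Y := fun p q => by
    have := congrFun (congrFun h ((hv r).symm p)) ((hv r).symm q)
    simpa [rep_apply] using this
  rw [← sum_eu_cmp i X, ← sum_eu_cmp i Y]
  simp [hc]

lemma rep_smul (i : Fin t) (c : F) (X : Mt t (r + r) F) : rep i (c • X) = c • rep i X :=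
  Matrix.ext fun _ _ => by simp [rep_apply, cmp_smul]

/-- A matrix of scalars as one of scalar matrices. -/
def em {n : Type*} [Fintype n] [DecidableEq n] : Matrix n n F →+* Matrix n n (Mt t m F) :=
  (algebraMap F (Mt t m F)).mapMatrix

lemma em_apply {n : Type*} [Fintype n] [DecidableEq n] (A : Matrix n n F) (u v : n) :
    (em A : Matrix n n (Mt t m F)) u v = A u v • 1 := by
  simp [em, Algebra.algebraMap_eq_smul_one]

lemma em_transpose {n : Type*} [Fintype n] [DecidableEq n] (A : Matrix n n F) :
    (em A : Matrix n n (Mt t m F))ᵀ = em Aᵀ :=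
  Matrix.ext fun u v => by simp [em_apply]

lemma em_injective [NeZero m] {n : Type*} [Fintype n] [DecidableEq n] :
    Function.Injective (em : Matrix n n F → Matrix n n (Mt t m F)) := fun A B h =>
  Matrix.ext fun u v => smul_left_injective F (one_ne_zero (α := Mt t m F)) (by
    simpa only [em_apply] using congrFun (congrFun h u) v)

lemma cmp_slot (i : Fin t) (p q : Fin m) (A : Matrix (Fin m) (Fin m) F) :
    cmp i p q (slot i A : Mt t m F) = A p q • 1 := by
  rw [slot_eq_sum]
  simp only [cmp, Finset.mul_sum, Finset.sum_mul, mul_smul_comm, smul_mul_assoc]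
  rw [← sum_eu i, Finset.smul_sum]
  refine Finset.sum_congr rfl fun s _ => ?_
  rw [Finset.sum_eq_single p, Finset.sum_eq_single q]
  · rw [eu_mul, eu_mul]
  · intro b _ hb; rw [eu_mul, eu_mul_ne i hb, smul_zero]
  · simp
  · intro a _ ha
    exact Finset.sum_eq_zero fun b _ => by rw [eu_mul_ne i ha.symm, zero_mul, smul_zero]
  · simp

lemma rep_slot (i : Fin t) (A B C D : Matrix (Fin r) (Fin r) F) :
    rep i (slot i (bm A B C D)) = Matrix.fromBlocks (em A) (em B) (em C) (em D) := by
  refine Matrix.ext fun u v => ?_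
  rw [rep_apply, cmp_slot, bm_apply]
  rcases u with a | a <;> rcases v with b | b <;> simp [em_apply]

/-- A member of the upper block on the factor `i`. -/
def upR (i : Fin t) (B : Matrix (Fin r) (Fin r) (Mt t (r + r) F)) : Mt t (r + r) F :=
  ∑ a, ∑ b, eu i (hv r (Sum.inl a)) (hv r (Sum.inr b)) * B a b

lemma cmp_sum {α : Type*} (i : Fin t) (p q : Fin m) (s : Finset α) (f : α → Mt t m F) :
    cmp i p q (∑ a ∈ s, f a) = ∑ a ∈ s, cmp i p q (f a) :=
  by simp only [cmp, Finset.mul_sum, Finset.sum_mul]; exact Finset.sum_comm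

lemma rep_upR {i : Fin t} {B : Matrix (Fin r) (Fin r) (Mt t (r + r) F)} (hB : ∀ a b, Com i (B a b)) :
    rep i (upR i B) = Matrix.fromBlocks 0 B 0 0 := by
  refine Matrix.ext fun u v => ?_
  simp only [rep_apply, upR, cmp_sum, cmp_eu_mul (hB _ _), (hv r).injective.eq_iff]
  rcases u with c | c <;> rcases v with d | d <;>
    simp [ite_and, Finset.sum_ite_eq]

lemma upR_add (i : Fin t) (B B' : Matrix (Fin r) (Fin r) (Mt t (r + r) F)) :
    upR i (B + B') = upR i B + upR i B' := by
  simp [upR, mul_add, Finset.sum_add_distrib]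

lemma upR_smul (i : Fin t) (c : F) (B : Matrix (Fin r) (Fin r) (Mt t (r + r) F)) :
    upR i (c • B) = c • upR i B := by
  simp [upR, Finset.smul_sum]

lemma upR_em (i : Fin t) (s : Matrix (Fin r) (Fin r) F) :
    upR i (em s) = (slot i (bm 0 s 0 0) : Mt t (r + r) F) := by
  refine rep_injective i ?_
  rw [rep_upR fun a b => by rw [em_apply]; exact (com_one i).smul _, rep_slot]
  simp [em]

lemma eq_upR {i : Fin t} {X : Mt t (r + r) F} {B : Matrix (Fin r) (Fin r) (Mt t (r + r) F)}
    (h : rep i X = Matrix.fromBlocks 0 B 0 0) : X = upR i B := by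
  refine rep_injective i ?_
  rw [rep_upR fun a b => ?_, h]
  have := com_rep i X (Sum.inl a) (Sum.inr b)
  rwa [h] at this

end CfsgLib.Geo.TensorPow
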