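/-
In odd characteristic a square-zero sum over the factors, and a unipotent wreath element whose square
vanishes, live on one factor.
-/
import Cfsg.Agent.Geo.TensorPow.Classify

set_option autoImplicit false
set_option linter.unusedSectionVars false

namespace CfsgLib.Geo.TensorPow

open Matrix Cfsg Cfsg.Geo CfsgLib.Geo CfsgLib.Aschbacher
open scoped MatrixGroups

variable {F : Type*} [Field F] {t m : ℕ}

/-- A square-zero sum over the factors in odd characteristic lies in one factor. -/
theorem classify_sum_odd (h2 : (2 : F) ≠ 0) [NeZero m] {T : Finset (Fin t)} (A : Fin t → Matrix (Fin m) (Fin m) F)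
    {X : Mt t m F} (hX : X = ∑ j ∈ T, slot j (A j)) (hXX : X * X = 0) (hX0 : X ≠ 0) :
    ∃ j A', X = slot j A' := by
  classical
  have fin : ∀ j A', X = slot j A' → ∃ j A', X = slot j A' := fun j A' h => ⟨j, A', h⟩
  -- derivations
  have hD : ∀ j ∈ T, ∀ P, slot j P * X - X * slot j P = slot j (P * A j - A j * P) := by
    intro j hj P
    rw [hX, Finset.mul_sum, Finset.sum_mul, ← Finset.sum_sub_distrib, Finset.sum_eq_single j]
    · rw [slot_mul, slot_mul, slot_sub]
    · intro l _ hl; rw [slot_mul_comm hl.symm, sub_self]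
    · exact fun h => absurd hj h
  by_cases hone : ∀ j ∈ T, ∀ l ∈ T, j ≠ l → (∃ c : F, A j = c • 1) ∨ ∃ c : F, A l = c • 1
  · by_cases hns : ∃ j ∈ T, ∀ c : F, A j ≠ c • 1
    · obtain ⟨j, hj, hjn⟩ := hns
      choose c hc using fun l (hl : l ∈ T.erase j) =>
        (hone j hj l (Finset.mem_of_mem_erase hl) (Finset.ne_of_mem_erase hl).symm).resolve_left
          fun ⟨c, hc⟩ => hjn c hc
      refine fin j (A j + (∑ l ∈ (T.erase j).attach, c l.1 l.2) • 1) ?_
      rw [slot_add, slot_smul, slot_one, hX, ← Finset.add_sum_erase T _ hj, Finset.sum_smul,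
        ← Finset.sum_attach (T.erase j)]
      refine congrArg _ (Finset.sum_congr rfl fun l _ => ?_)
      rw [hc l.1 l.2, slot_smul, slot_one]
    · push Not at hns
      obtain ⟨j, hj⟩ : T.Nonempty := by
        by_contra h
        rw [Finset.not_nonempty_iff_eq_empty] at h
        exact hX0 (by rw [hX, h, Finset.sum_empty])
      choose c hc using hns
      refine fin j ((∑ l ∈ T.attach, c l.1 l.2) • 1) ?_
      rw [slot_smul, slot_one, hX, Finset.sum_smul, ← Finset.sum_attach T]
      exact Finset.sum_congr rfl fun l _ => by rw [hc l.1 l.2, slot_smul, slot_one]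
  push Not at hone
  obtain ⟨j, hj, l, hl, hjl, hjn, hln⟩ := hone
  obtain ⟨P, hP⟩ : ∃ P, P * A j - A j * P ≠ 0 := by
    by_contra hc
    push Not at hc
    obtain ⟨c, hc⟩ := scalar_of_forall_comm fun P => sub_eq_zero.1 (hc P)
    exact hjn c hc
  obtain ⟨Q, hQ⟩ : ∃ Q, Q * A l - A l * Q ≠ 0 := by
    by_contra hc
    push Not at hc
    obtain ⟨c, hc⟩ := scalar_of_forall_comm fun P => sub_eq_zero.1 (hc P)
    exact hln c hc
  exfalso
  set U := slot j (P * A j - A j * P) with hU
  set W := slot l (Q * A l - A l * Q) with hW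
  have eU : U * X + X * U = 0 := by
    rw [hU, ← hD j hj P]
    calc _ = slot j P * (X * X) - X * X * slot j P := by noncomm_ring
      _ = 0 := by rw [hXX, mul_zero, zero_mul, sub_zero]
  have hUQ : slot l Q * U = U * slot l Q := slot_mul_comm hjl.symm _ _
  have e2 : U * W + W * U = 0 := by
    rw [hW, ← hD l hl Q]
    calc U * (slot l Q * X - X * slot l Q) + (slot l Q * X - X * slot l Q) * U
        = U * slot l Q * X - U * X * slot l Q + (slot l Q * (X * U) - X * (slot l Q * U)) := by noncomm_ring
      _ = slot l Q * U * X - U * X * slot l Q + (slot l Q * (X * U) - X * (U * slot l Q)) := by rw [← hUQ]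
      _ = slot l Q * (U * X + X * U) - (U * X + X * U) * slot l Q := by noncomm_ring
      _ = 0 := by rw [eU, mul_zero, zero_mul, sub_zero]
  have hcm : W * U = U * W := slot_mul_comm hjl.symm _ _
  rw [hcm, ← two_smul F (U * W)] at e2
  exact slot_mul_ne_zero hjl hP hQ ((smul_eq_zero.1 e2).resolve_left h2)

/-- A unipotent wreath element with square-zero difference to the identity in odd characteristic lives on
one factor. -/
theorem classify_wreath_odd [Finite F] (h2 : (2 : F) ≠ 0) (hm : 2 ≤ m) {g : GL (Fin t → Fin m) F}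
    (hg : g ∈ tensorWreathStandard m t F) (hXX : ((g : Mt t m F) - 1) * ((g : Mt t m F) - 1) = 0)
    (hX0' : (g : Mt t m F) ≠ 1) : ∃ j A, (g : Mt t m F) - 1 = slot j A := by
  classical
  letI := Fintype.ofFinite F
  haveI : NeZero m := ⟨by omega⟩
  obtain ⟨a, σ, hgv⟩ := exists_tens_perm hg
  set X : Mt t m F := (g : Mt t m F) - 1 with hX
  have hX0 : X ≠ 0 := sub_ne_zero.2 hX0'
  have fin : ∀ j A, (g : Mt t m F) = slot j A → ∃ j A, X = slot j A := fun j A h =>
    ⟨j, A - 1, by rw [hX, h, slot_sub, slot_one]⟩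
  -- the action on pure tensors
  have hact : ∀ v, (g : Mt t m F) *ᵥ pv v = pv fun l => (a l : Matrix (Fin m) (Fin m) F) *ᵥ v (σ.symm l) := fun v => by
    rw [hgv, ← Matrix.mulVec_mulVec, permMat_mulVec_pv, tens_mulVec_pv]
  have hne : ∀ (l : Fin t) (u : Fin m → F), u ≠ 0 → (a l : Matrix (Fin m) (Fin m) F) *ᵥ u ≠ 0 := fun l u hu h0 =>
    hu (by rw [← inv_mulVec_mulVec (a l) u, h0, Matrix.mulVec_zero])
  set e₀ : Fin m → F := Pi.single ⟨0, by omega⟩ 1
  have he₀ : e₀ ≠ 0 := by simp [e₀]
  have hσ : ∀ j, σ (σ j) = j := by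
    intro j
    by_contra hne'
    set k := σ j with hk
    set l := σ k with hl
    have hjk : k ≠ j := fun h => hne' (by rw [hl, h, ← hk, h])
    have hkl : k ≠ l := fun h => hjk (σ.injective (by rw [← hl, ← h]))
    obtain ⟨w, hw⟩ := exists_not_mem_span (F := F) hm ((a k : Matrix (Fin m) (Fin m) F) *ᵥ e₀)
    obtain ⟨w', hw'⟩ := exists_not_mem_span (F := F) hm
      ((a l : Matrix (Fin m) (Fin m) F) *ᵥ ((a k : Matrix (Fin m) (Fin m) F) *ᵥ e₀))
    let v : Fin t → Fin m → F := Function.update (Function.update (fun _ => e₀) k w) l w'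
    have hw0 : w ≠ 0 := fun h => hw (h ▸ Submodule.zero_mem _)
    have hw'0 : w' ≠ 0 := fun h => hw' (h ▸ Submodule.zero_mem _)
    have hvj : v j = e₀ := by simp [v, Function.update_of_ne hjk.symm, Function.update_of_ne (Ne.symm hne')]
    refine kill hXX (v := v) (fun r => ?_) (hact v) (hact _) hkl ?_ ?_
    · simp only [v, Function.update_apply]; split_ifs <;> assumption
    · simp only [show σ.symm k = j by rw [hk, Equiv.symm_apply_apply], hvj]
      simpa [v, Function.update_of_ne hkl] using hw
    · simp only [show σ.symm l = k by rw [hl, Equiv.symm_apply_apply],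
        show σ.symm k = j by rw [hk, Equiv.symm_apply_apply], hvj]
      simpa [v] using hw'
  have hσs : ∀ l, σ.symm l = σ l := fun l => σ.symm_apply_eq.2 (hσ l).symm
  set β : Fin t → Matrix (Fin m) (Fin m) F := fun l => (a l : Matrix (Fin m) (Fin m) F) * (a (σ l) : Matrix (Fin m) (Fin m) F)
    with hβ
  have hsq : (g : Mt t m F) * (g : Mt t m F) = tens β := by
    rw [hgv, mul_assoc, ← mul_assoc (permMat m σ), permMat_mul_tens, mul_assoc, ← mul_assoc (tens fun i => _),
      tens_mul, permMat_mul, show σ * σ = 1 from Equiv.ext hσ,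
      show (permMat m (1 : Equiv.Perm (Fin t)) : Mt t m F) = 1 by ext x y; simp [permMat, Matrix.one_apply, eq_comm],
      mul_one]
    simp only [hσs]
    rfl
  by_cases hβs : ∀ l, ∃ c : F, β l = c • 1
  swap
  · push Not at hβs
    obtain ⟨l, hl⟩ := hβs
    obtain ⟨w, hw0, hw⟩ := exists_non_eigen hl
    have hkill : ∀ k, k ≠ l → ∀ v : Fin t → Fin m → F, (∀ r, v r ≠ 0) → v l = w →
        v k ∉ F ∙ ((a k : Matrix (Fin m) (Fin m) F) *ᵥ v (σ k)) → False := by
      intro k hkl v hv hvl hk
      refine kill hXX hv (hact v) (hact _) hkl ?_ ?_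
      · simpa [hσs] using hk
      · simp only [hσs, hσ, Matrix.mulVec_mulVec, hvl]
        exact hw
    by_cases hσ1 : ∀ r, σ r = r
    · by_cases hone : ∀ k, k ≠ l → ∃ c : F, (a k : Matrix (Fin m) (Fin m) F) = c • 1
      ·
        choose c hc using hone
        let c' : Fin t → F := fun k => if h : k = l then 1 else c k h
        refine fin l ((∏ k, c' k) • (a l : Matrix (Fin m) (Fin m) F)) ?_
        rw [slot_smul, slot, ← tens_smul, hgv, show σ = 1 from Equiv.ext hσ1,
          show (permMat m (1 : Equiv.Perm (Fin t)) : Mt t m F) = 1 by ext x y; simp [permMat, Matrix.one_apply, eq_comm],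
          mul_one]
        congr 1
        funext k
        rcases eq_or_ne k l with rfl | hk
        · simp [c']
        · simp [c', hk, Function.update_of_ne hk, ← hc k hk]
      · push Not at hone
        obtain ⟨k, hk, hkn⟩ := hone
        obtain ⟨u, hu0, hu⟩ := exists_non_eigen hkn
        exact (hkill k hk (Function.update (Function.update (fun _ => e₀) k u) l w)
          (fun r => by simp only [Function.update_apply]; split_ifs <;> assumption)
          (by simp) (by simpa [hσ1, Function.update_of_ne hk] using hu)).elim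
    · exfalso
      push Not at hσ1
      obtain ⟨k, hk⟩ : ∃ k, σ k ≠ k ∧ k ≠ l := by
        obtain ⟨r, hr⟩ := hσ1
        rcases eq_or_ne r l with rfl | hrl
        · exact ⟨σ r, by rw [hσ]; exact hr.symm, hr⟩
        · exact ⟨r, hr, hrl⟩
      let v₁ : Fin t → Fin m → F := Function.update (fun _ => e₀) l w
      obtain ⟨u, hu⟩ := exists_not_mem_span (F := F) hm
        ((a k : Matrix (Fin m) (Fin m) F) *ᵥ v₁ (σ k))
      have hu0 : u ≠ 0 := fun h => hu (h ▸ Submodule.zero_mem _)
      refine hkill k hk.2 (Function.update v₁ k u)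
        (fun r => by simp only [v₁, Function.update_apply]; split_ifs <;> assumption)
        (by simp [v₁, Function.update_of_ne hk.2.symm]) ?_
      simpa [Function.update_of_ne hk.1] using hu
  choose γ hγ using hβs
  have hsq' : (g : Mt t m F) * (g : Mt t m F) = (∏ l, γ l) • 1 := by
    rw [hsq, show β = fun l => γ l • (1 : Matrix (Fin m) (Fin m) F) from funext hγ, tens_smul, tens_one]
  have hlin : (∏ l, γ l) • (1 : Mt t m F) = (2 : F) • (g : Mt t m F) - 1 := by
    rw [← hsq', two_smul]
    have := hXX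
    rw [hX] at this
    calc (g : Mt t m F) * g = ((g : Mt t m F) - 1) * ((g : Mt t m F) - 1) + ((g : Mt t m F) + g) - 1 := by noncomm_ring
      _ = _ := by rw [this, zero_add]
  exfalso
  refine hX0 ?_
  set d := ((∏ l, γ l) + 1) / 2 - 1
  have : X = d • 1 := by
    rw [hX, sub_smul, one_smul, div_eq_inv_mul, ← smul_smul, add_smul, one_smul, hlin, sub_add_cancel, smul_smul,
      inv_mul_cancel₀ h2, one_smul]
  rw [this, smul_mul_smul_comm, one_mul] at hXX
  rw [this, mul_self_eq_zero.1 ((smul_eq_zero.1 hXX).resolve_right one_ne_zero), zero_smul]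

end CfsgLib.Geo.TensorPow
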