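/-
The isometries of a tensor power of symplectic spaces and overgroups of the stabiliser of the factors.
-/
import Cfsg.Agent.Geo.TensorPow.Sp.Basic

set_option autoImplicit false
set_option linter.unusedSectionVars false

namespace CfsgLib.Geo.TensorPow

open Matrix CfsgLib.Aschbacher
open scoped MatrixGroups

variable {F : Type*} [Field F] {t r : ℕ}

/-- The symplectic form of one factor. -/
def jm (r : ℕ) (F : Type*) [Field F] : Matrix (Fin (r + r)) (Fin (r + r)) F := bm 0 (-1) 1 0

/-- The form of the tensor power. -/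
def jt (t r : ℕ) (F : Type*) [Field F] : Mt t (r + r) F := tens fun _ => jm r F

/-- The transvection with the centre `v` lies in `M` for every coefficient. -/
def FullAt (M : Subgroup (GL (Fin t → Fin (r + r)) F)) (v : (Fin t → Fin (r + r)) → F) : Prop :=
  ∀ c : F, Mem M (1 + c • vecMulVec v (v ᵥ* jt t r F))

lemma jm_sq : jm r F * jm r F = -1 := by
  rw [jm, bm_mul, ← bm_one, bm_neg]; simp

lemma jm_transpose : (jm r F)ᵀ = -jm r F := by
  rw [jm, bm_transpose, bm_neg]; simp

lemma jm_ne_zero (hr : 0 < r) : jm r F ≠ 0 := by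
  intro h
  have h2 := jm_sq (r := r) (F := F)
  rw [h, mul_zero, eq_comm, neg_eq_zero] at h2
  have := congrFun (congrFun h2 ⟨0, by omega⟩) ⟨0, by omega⟩
  simp at this

/-- The matrix preserves the form of a factor. -/
def IsSp (h : Matrix (Fin (r + r)) (Fin (r + r)) F) : Prop := hᵀ * jm r F * h = jm r F

lemma IsSp.mul {g h : Matrix (Fin (r + r)) (Fin (r + r)) F} (hg : IsSp g) (hh : IsSp h) : IsSp (g * h) := by
  unfold IsSp at *
  calc (g * h)ᵀ * jm r F * (g * h) = hᵀ * (gᵀ * jm r F * g) * h := by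
        rw [Matrix.transpose_mul]; simp only [mul_assoc]
    _ = _ := by rw [hg, hh]

/-- The inverse of a matrix preserving the form. -/
def spInv (h : Matrix (Fin (r + r)) (Fin (r + r)) F) : Matrix (Fin (r + r)) (Fin (r + r)) F :=
  -(jm r F * hᵀ * jm r F)

lemma IsSp.spInv_mul {h : Matrix (Fin (r + r)) (Fin (r + r)) F} (hh : IsSp h) : spInv h * h = 1 := by
  calc spInv h * h = -(jm r F * (hᵀ * jm r F * h)) := by simp [spInv, mul_assoc]
    _ = 1 := by rw [hh, jm_sq, neg_neg]

lemma IsSp.mul_spInv {h : Matrix (Fin (r + r)) (Fin (r + r)) F} (hh : IsSp h) : h * spInv h = 1 :=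
  mul_eq_one_comm.1 hh.spInv_mul

lemma IsSp.inv {h k : Matrix (Fin (r + r)) (Fin (r + r)) F} (hh : IsSp h) (hk : h * k = 1) : IsSp k := by
  calc kᵀ * jm r F * k = kᵀ * (hᵀ * jm r F * h) * k := by rw [hh]
    _ = (h * k)ᵀ * jm r F * (h * k) := by rw [Matrix.transpose_mul]; simp only [mul_assoc]
    _ = jm r F := by rw [hk, Matrix.transpose_one, one_mul, mul_one]

lemma isSp_jm : IsSp (jm r F) := by
  rw [IsSp, jm_transpose, neg_mul, jm_sq, neg_neg, one_mul]

lemma isSp_lev {H H' : Matrix (Fin r) (Fin r) F} (h : Hᵀ * H' = 1) : IsSp (bm H 0 0 H') := by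
  have h' : H'ᵀ * H = 1 := by rw [← Matrix.transpose_one, ← h, Matrix.transpose_mul, Matrix.transpose_transpose]
  rw [IsSp, jm, bm_transpose, bm_mul, bm_mul]
  simp [h, h']

lemma isSp_up {s : Matrix (Fin r) (Fin r) F} (h : sᵀ = s) : IsSp (bm 1 s 0 1) := by
  rw [IsSp, jm, bm_transpose, bm_mul, bm_mul]
  simp [h]

lemma mul_jm_mul_update (i : Fin t) (h : Matrix (Fin (r + r)) (Fin (r + r)) F) :
    (slot i h : Mt t (r + r) F)ᵀ * jt t r F * slot i h =
      tens (Function.update (fun _ => jm r F) i (hᵀ * jm r F * h)) := by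
  rw [slot_transpose, jt, slot_mul_tens, tens_mul_slot_eq, Function.update_idem, Function.update_self]

lemma isSp_of_slot [NeZero r] {i : Fin t} {h : Matrix (Fin (r + r)) (Fin (r + r)) F}
    (hh : (slot i h : Mt t (r + r) F)ᵀ * jt t r F * slot i h = jt t r F) : IsSp h := by
  rw [mul_jm_mul_update] at hh
  have h0 : ∃ p q, jm r F p q ≠ 0 := by
    by_contra hc; push Not at hc; exact jm_ne_zero (Nat.pos_of_ne_zero (NeZero.ne r)) (Matrix.ext hc)
  obtain ⟨p, q, hpq⟩ := h0
  refine Matrix.ext fun a b => ?_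
  have := congrFun (congrFun (hh.trans (show jt t r F = tens (Function.update (fun _ => jm r F) i (jm r F)) by
    rw [Function.update_eq_self_iff.2 rfl]; rfl)) (Function.update (fun _ => p) i a))
    (Function.update (fun _ => q) i b)
  simp only [tens_update_apply, Function.update_self] at this
  refine mul_right_cancel₀ (Finset.prod_ne_zero_iff.2 fun l hl => ?_) this
  simpa [Function.update_of_ne (Finset.ne_of_mem_erase hl)] using hpq

/-- A proper overgroup of the isometries of the factors and their permutations, within the isometries. -/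
structure SpBad (M : Subgroup (GL (Fin t → Fin (r + r)) F)) : Prop where
  iso : ∀ g ∈ M, (g : Mt t (r + r) F)ᵀ * jt t r F * (g : Mt t (r + r) F) = jt t r F
  slot_mem : ∀ i h, IsSp h → Mem M (slot i h)
  perm_mem : ∀ σ, Mem M (permMat (r + r) σ)
  nfull : ¬ ∀ v, FullAt M v

lemma Mem.conj {M : Subgroup (GL (Fin t → Fin (r + r)) F)} {G G' X : Mt t (r + r) F} (hG : Mem M G)
    (h : G * G' = 1) (hX : Mem M (1 + X)) : Mem M (1 + G * X * G') := by
  have := (hG.mul hX).mul (hG.inv h)
  rwa [mul_add, mul_one, add_mul, h] at this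

lemma Mem.add' {M : Subgroup (GL (Fin t → Fin (r + r)) F)} {X Y : Mt t (r + r) F} (hX : Mem M (1 + X))
    (hY : Mem M (1 + Y)) (h : X * Y = 0) : Mem M (1 + (X + Y)) := by
  have := hX.mul hY
  rwa [add_mul, one_mul, mul_add X, mul_one, h, add_zero, add_assoc, add_comm Y] at this

namespace SpBad

variable {M : Subgroup (GL (Fin t → Fin (r + r)) F)}

lemma conj_slot (hM : SpBad M) {X : Mt t (r + r) F} (hX : Mem M (1 + X)) (i : Fin t)
    {h k : Matrix (Fin (r + r)) (Fin (r + r)) F} (hh : IsSp h) (hk : h * k = 1) :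
    Mem M (1 + slot i h * X * slot i k) :=
  (hM.slot_mem i h hh).conj (by rw [slot_mul, hk, slot_one]) hX

lemma conj_perm (hM : SpBad M) {X : Mt t (r + r) F} (hX : Mem M (1 + X)) (σ : Equiv.Perm (Fin t)) :
    Mem M (1 + permMat (r + r) σ * X * permMat (r + r) σ.symm) :=
  (hM.perm_mem σ).conj (permMat_mul_inv σ) hX

lemma slot_up_mem (hM : SpBad M) (i : Fin t) {s : Matrix (Fin r) (Fin r) F} (h : sᵀ = s) :
    Mem M (1 + slot i (bm 0 s 0 0)) := by
  have := hM.slot_mem i _ (isSp_up h)
  rwa [show bm 1 s 0 1 = (1 : Matrix (Fin (r + r)) (Fin (r + r)) F) + bm 0 s 0 0 by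
    rw [← bm_one, bm_add]; simp, slot_add, slot_one] at this

/-- An isometry `1 + X` with `X` square-zero has `X` skew for the form. -/
lemma skew (hM : SpBad M) {X : Mt t (r + r) F} (hX : Mem M (1 + X)) (hXX : X * X = 0) :
    Xᵀ * jt t r F = -(jt t r F * X) := by
  obtain ⟨g, hg, hgv⟩ := hX
  have h := hM.iso g hg
  rw [hgv, Matrix.transpose_add, Matrix.transpose_one] at h
  calc Xᵀ * jt t r F = (1 + Xᵀ) * jt t r F * (1 + X) * (1 - X) - jt t r F := by
        rw [mul_assoc ((1 + Xᵀ) * jt t r F), one_add_mul_one_sub hXX, mul_one]; noncomm_ring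
    _ = _ := by rw [h]; noncomm_ring

end SpBad

end CfsgLib.Geo.TensorPow
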