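/-
Sets of matrices over an algebra closed under congruence by invertible matrices of scalars contain the
parts of their members at single places.
-/
import Cfsg.Agent.Geo.TensorPow.Sp.Basic

set_option autoImplicit false
set_option linter.unusedSectionVars false

namespace CfsgLib.Geo.TensorPow

open Matrix CfsgLib.Aschbacher

variable {F : Type*} [Field F] {t m r : ℕ}

lemma em_single (a b : Fin r) (c : F) :
    (em (Matrix.single a b c) : Matrix (Fin r) (Fin r) (Mt t m F)) = Matrix.single a b (c • 1) :=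
  Matrix.ext fun u v => by simp [em_apply, Matrix.single_apply]

/-- An additive set of matrices closed under congruence. -/
structure LevSet (S : Set (Matrix (Fin r) (Fin r) (Mt t m F))) : Prop where
  add : ∀ A ∈ S, ∀ B ∈ S, A + B ∈ S
  smul : ∀ (c : F), ∀ A ∈ S, c • A ∈ S
  cong : ∀ H H' : Matrix (Fin r) (Fin r) F, Hᵀ * H' = 1 → ∀ B ∈ S, em H * B * em Hᵀ ∈ S

namespace LevSet

variable {S : Set (Matrix (Fin r) (Fin r) (Mt t m F))}

lemma sub (hS : LevSet S) {A B : Matrix (Fin r) (Fin r) (Mt t m F)} (hA : A ∈ S) (hB : B ∈ S) : A - B ∈ S := by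
  have := hS.add _ hA _ (hS.smul (-1) _ hB)
  rwa [neg_one_smul, ← sub_eq_add_neg] at this

lemma zero (hS : LevSet S) {A : Matrix (Fin r) (Fin r) (Mt t m F)} (hA : A ∈ S) : (0 : Matrix _ _ (Mt t m F)) ∈ S := by
  simpa using hS.smul 0 A hA

lemma nil (hS : LevSet S) (h2 : (2 : F) ≠ 0) {B : Matrix (Fin r) (Fin r) (Mt t m F)} (hB : B ∈ S)
    {P : Matrix (Fin r) (Fin r) F} (hP : P * P = 0) :
    em P * B * em Pᵀ ∈ S ∧ em P * B + B * em Pᵀ ∈ S := by
  have hPt : Pᵀ * Pᵀ = 0 := by rw [← Matrix.transpose_mul, hP, Matrix.transpose_zero]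
  have hplus : em (1 + P) * B * em (1 + P)ᵀ ∈ S :=
    hS.cong (1 + P) (1 - Pᵀ) (by
      rw [Matrix.transpose_add, Matrix.transpose_one, mul_sub, mul_one, add_mul, one_mul, hPt]; abel) B hB
  have hminus : em (1 - P) * B * em (1 - P)ᵀ ∈ S :=
    hS.cong (1 - P) (1 + Pᵀ) (by
      rw [Matrix.transpose_sub, Matrix.transpose_one, mul_add, mul_one, sub_mul, one_mul, hPt]; abel) B hB
  simp only [Matrix.transpose_add, Matrix.transpose_sub, Matrix.transpose_one, map_add, map_sub, map_one] at hplus hminus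
  constructor
  · have := hS.smul (2⁻¹) _ (hS.sub (hS.sub (hS.add _ hplus _ hminus) hB) hB)
    rwa [show (1 + em P) * B * (1 + em Pᵀ) + (1 - em P) * B * (1 - em Pᵀ) - B - B =
      em P * B * em Pᵀ + em P * B * em Pᵀ by noncomm_ring, ← two_smul F, smul_smul, inv_mul_cancel₀ h2,
      one_smul] at this
  · have := hS.smul (2⁻¹) _ (hS.sub hplus hminus)
    rwa [show (1 + em P) * B * (1 + em Pᵀ) - (1 - em P) * B * (1 - em Pᵀ) =
      (em P * B + B * em Pᵀ) + (em P * B + B * em Pᵀ) by noncomm_ring, ← two_smul F, smul_smul, inv_mul_cancel₀ h2,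
      one_smul] at this

lemma move (hS : LevSet S) (h2 : (2 : F) ≠ 0) {B : Matrix (Fin r) (Fin r) (Mt t m F)} (hB : B ∈ S)
    {a c : Fin r} (hca : c ≠ a) : Matrix.single c c (B a a) ∈ S := by
  have := (hS.nil h2 hB (P := Matrix.single c a 1) (Matrix.single_mul_single_of_ne _ _ _ _ hca.symm _)).1
  rwa [Matrix.transpose_single, em_single, em_single, one_smul, Matrix.single_mul_mul_single, one_mul, mul_one] at this

lemma diag_mem (hS : LevSet S) (h2 : (2 : F) ≠ 0) {B : Matrix (Fin r) (Fin r) (Mt t m F)} (hB : B ∈ S)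
    (o a : Fin r) : Matrix.single o o (B a a) ∈ S := by
  by_cases hao : o ≠ a
  · exact hS.move h2 hB hao
  push Not at hao
  subst hao
  by_cases h : ∃ c : Fin r, c ≠ o
  · obtain ⟨c, hc⟩ := h
    simpa using hS.move h2 (hS.move h2 hB hc) (a := c) (c := o) hc.symm
  push Not at h
  rwa [show Matrix.single o o (B o o) = B from Matrix.ext fun u v => by rw [h u, h v, Matrix.single_apply_same]]

lemma sym_mem (hS : LevSet S) (h2 : (2 : F) ≠ 0) {B : Matrix (Fin r) (Fin r) (Mt t m F)} (hB : B ∈ S)
    (o : Fin r) {a b : Fin r} (hab : a ≠ b) : Matrix.single o o (B a b + B b a) ∈ S := by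
  have := hS.diag_mem h2 (hS.nil h2 hB (P := Matrix.single a b 1)
    (Matrix.single_mul_single_of_ne _ _ _ _ hab.symm _)).2 o a
  rwa [Matrix.transpose_single, em_single, em_single, one_smul, Matrix.add_apply, Matrix.single_mul_apply_same,
    Matrix.mul_single_apply_same, one_mul, mul_one, add_comm] at this

lemma cross (hS : LevSet S) (h2 : (2 : F) ≠ 0) {B : Matrix (Fin r) (Fin r) (Mt t m F)} (hB : B ∈ S) (a : Fin r) :
    (Matrix.of fun u v => if (u = a ↔ v = a) then 0 else B u v) ∈ S := by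
  set d : Fin r → F := fun k => if k = a then -1 else 1 with hd
  have hdd : ∀ k, d k * d k = 1 := fun k => by simp only [hd]; split_ifs <;> simp
  have h := hS.cong (Matrix.diagonal d) (Matrix.diagonal d)
    (by rw [Matrix.diagonal_transpose, Matrix.diagonal_mul_diagonal]; simp [hdd]) B hB
  have := hS.smul (2⁻¹) _ (hS.sub hB h)
  convert this using 1
  refine Matrix.ext fun u v => ?_
  have e : (em (Matrix.diagonal d) * B * em (Matrix.diagonal d)ᵀ : Matrix (Fin r) (Fin r) (Mt t m F)) u v =
      (d u * d v) • B u v := by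
    rw [Matrix.diagonal_transpose, show (em (Matrix.diagonal d) : Matrix (Fin r) (Fin r) (Mt t m F)) =
      Matrix.diagonal fun k => d k • 1 from Matrix.ext fun u v => by
        rcases eq_or_ne u v with rfl | huv <;> simp [em_apply, *], Matrix.mul_diagonal, Matrix.diagonal_mul]
    simp [smul_smul, mul_comm]
  rw [Matrix.of_apply, Matrix.smul_apply, Matrix.sub_apply, e]
  by_cases hu : u = a <;> by_cases hv : v = a <;> simp [hd, hu, hv, smul_add, ← add_smul] <;>
    field_simp <;> norm_num [h2]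

lemma antisym_mem (hS : LevSet S) (h2 : (2 : F) ≠ 0) {B : Matrix (Fin r) (Fin r) (Mt t m F)} (hB : B ∈ S)
    {o o' a b : Fin r} (ho : o ≠ o') (hab : a ≠ b) (hanti : B b a = -B a b) :
    Matrix.single o o' (B a b) - Matrix.single o' o (B a b) ∈ S := by
  have h := hS.cross h2 (hS.cross h2 hB a) b
  obtain ⟨σ, hσ, hσ'⟩ : ∃ σ : Equiv.Perm (Fin r), σ o = a ∧ σ o' = b := by
    refine ⟨(Equiv.swap o a).trans (Equiv.swap (Equiv.swap o a o') b), ?_, by simp⟩
    rw [Equiv.trans_apply, Equiv.swap_apply_left, Equiv.swap_apply_of_ne_of_ne _ hab]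
    intro e
    exact ho ((Equiv.swap o a).injective (by rw [Equiv.swap_apply_left, ← e]))
  set P : Matrix (Fin r) (Fin r) F := (1 : Matrix (Fin r) (Fin r) F).submatrix σ id with hP
  have hPP : Pᵀ * P = 1 := mul_eq_one_comm.1 (by
    rw [hP, Matrix.transpose_submatrix, Matrix.transpose_one, ← Matrix.submatrix_mul _ _ _ id _ Function.bijective_id,
      mul_one, Matrix.submatrix_one_equiv])
  have h' := hS.cong P P hPP _ h
  convert h' using 1
  refine Matrix.ext fun u v => ?_
  rw [show (em P : Matrix (Fin r) (Fin r) (Mt t m F)) = (1 : Matrix _ _ (Mt t m F)).submatrix σ id from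
      Matrix.ext fun u v => by simp [em_apply, hP, Matrix.one_apply, ite_smul],
    show (em Pᵀ : Matrix (Fin r) (Fin r) (Mt t m F)) = (1 : Matrix _ _ (Mt t m F)).submatrix id σ from
      Matrix.ext fun u v => by simp [em_apply, hP, Matrix.one_apply, ite_smul, eq_comm]]
  have key : ∀ X : Matrix (Fin r) (Fin r) (Mt t m F),
      (1 : Matrix (Fin r) (Fin r) (Mt t m F)).submatrix σ id * X *
        (1 : Matrix (Fin r) (Fin r) (Mt t m F)).submatrix id σ = X.submatrix σ σ := fun X => by
    refine Matrix.ext fun x y => ?_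
    simp [Matrix.mul_apply, Matrix.one_apply]
  rw [key]
  simp only [Matrix.sub_apply, Matrix.single_apply, Matrix.submatrix_apply, Matrix.of_apply]
  have eo : ∀ x, σ x = a ↔ o = x := fun x => by rw [← hσ, σ.injective.eq_iff, eq_comm]
  have eo' : ∀ x, σ x = b ↔ o' = x := fun x => by rw [← hσ', σ.injective.eq_iff, eq_comm]
  simp only [eo, eo']
  by_cases hu : o = u <;> by_cases hu' : o' = u <;> by_cases hv : o = v <;> by_cases hv' : o' = v <;>
    (try subst hu) <;> (try subst hu') <;> (try subst hv) <;> (try subst hv') <;> simp [*] at *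

end LevSet

end CfsgLib.Geo.TensorPow
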