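/-
A member `1 + upR i B` with a non-scalar entry gives a member with a pure tensor of nilpotents on at least
two factors.
-/
import Cfsg.Agent.Geo.TensorPow.Sp.Group
import Cfsg.Agent.Geo.TensorPow.Sp.Isolate

set_option autoImplicit false
set_option linter.unusedSectionVars false

namespace CfsgLib.Geo.TensorPow

open Matrix CfsgLib.Aschbacher
open scoped MatrixGroups

variable {F : Type*} [Field F] {t r : ℕ}

lemma tens_eq_zero {m : ℕ} {a : Fin t → Matrix (Fin m) (Fin m) F} {l : Fin t} (h : a l = 0) : (tens a : Mt t m F) = 0 := by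
  rw [tens_split l, h, slot_zero, zero_mul]

lemma em_mul_apply {m n : ℕ} (A : Matrix (Fin n) (Fin n) F) (X : Matrix (Fin n) (Fin n) (Mt t m F)) (a b : Fin n) :
    ((em A : Matrix (Fin n) (Fin n) (Mt t m F)) * X) a b = ∑ k, A a k • X k b := by
  simp [Matrix.mul_apply, em_apply]

lemma mul_em_apply {m n : ℕ} (A : Matrix (Fin n) (Fin n) F) (X : Matrix (Fin n) (Fin n) (Mt t m F)) (a b : Fin n) :
    (X * (em A : Matrix (Fin n) (Fin n) (Mt t m F))) a b = ∑ k, A k b • X a k := by
  simp [Matrix.mul_apply, em_apply]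

lemma rep_com {i : Fin t} {C : Mt t (r + r) F} (h : Com i C) : rep i C = Matrix.diagonal fun _ => C := by
  have e : C = ∑ p, eu i p p * C := by rw [← Finset.sum_mul, sum_eu, one_mul]
  refine Matrix.ext fun u v => ?_
  rw [rep_apply]
  conv_lhs => rw [e]
  rw [cmp_sum]
  simp only [cmp_eu_mul h]
  rcases eq_or_ne u v with rfl | huv
  · simp
  · rw [Matrix.diagonal_apply_ne _ huv]
    refine Finset.sum_eq_zero fun p _ => if_neg fun hp => huv ((hv r).injective (hp.1.trans hp.2.symm))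

lemma diagonal_eq_fromBlocks {A : Type*} [Zero A] (c : A) :
    (Matrix.diagonal fun _ => c : Matrix (Fin r ⊕ Fin r) (Fin r ⊕ Fin r) A) =
      Matrix.fromBlocks (Matrix.diagonal fun _ => c) 0 0 (Matrix.diagonal fun _ => c) := by
  rw [Matrix.fromBlocks_diagonal]
  congr 1
  funext x; cases x <;> rfl

/-- The kinds of factors of a pure tensor of nilpotents. -/
inductive Knd where
  | I
  | E
  | Y
deriving DecidableEq

variable [NeZero r]

/-- A second coordinate. -/
def o1 : Fin r := ⟨min 1 (r - 1), by have := Nat.pos_of_ne_zero (NeZero.ne r); omega⟩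

lemma o1_ne (h : 2 ≤ r) : (0 : Fin r) ≠ o1 := by
  simp [o1, Fin.ext_iff]; omega

/-- The long root element of a factor. -/
def ee : Matrix (Fin (r + r)) (Fin (r + r)) F := bm 0 (Matrix.single 0 0 1) 0 0

/-- The root element of a factor in the skew part. -/
def yy : Matrix (Fin (r + r)) (Fin (r + r)) F := bm 0 (Matrix.single 0 o1 1 - Matrix.single o1 0 1) 0 0

/-- The matrix of a kind. -/
def kmat : Knd → Matrix (Fin (r + r)) (Fin (r + r)) F
  | Knd.I => 1
  | Knd.E => ee
  | Knd.Y => yy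

/-- The pure tensor of the kinds. -/
def UL (L : Fin t → Knd) : Mt t (r + r) F := tens fun l => kmat (L l)

/-- The kind `Y` occurs only with two coordinates. -/
def Wf (r : ℕ) (L : Fin t → Knd) : Prop := ∀ l, L l = Knd.Y → 2 ≤ r

lemma kmat_sq {k : Knd} (h : k ≠ Knd.I) : (kmat k : Matrix (Fin (r + r)) (Fin (r + r)) F) * kmat k = 0 := by
  cases k with
  | I => exact absurd rfl h
  | E => rw [kmat, ee, bm_mul]; simp [bm]
  | Y => rw [kmat, yy, bm_mul]; simp [bm]

lemma UL_sq {L : Fin t → Knd} {l : Fin t} (h : L l ≠ Knd.I) : (UL L : Mt t (r + r) F) * UL L = 0 := by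
  rw [UL, tens_mul]
  exact tens_eq_zero (l := l) (kmat_sq h)

lemma bm_zero_ne {B : Matrix (Fin r) (Fin r) F} (h : B ≠ 0) : bm 0 B 0 0 ≠ 0 := fun e =>
  h (bm_inj (e.trans (show (0 : Matrix (Fin (r + r)) (Fin (r + r)) F) = bm 0 0 0 0 by simp [bm]))).2.1

lemma kmat_ne_zero {k : Knd} (h : k = Knd.Y → 2 ≤ r) : (kmat k : Matrix (Fin (r + r)) (Fin (r + r)) F) ≠ 0 := by
  cases k with
  | I => exact one_ne_zero
  | E => exact bm_zero_ne fun e => by simpa using congrFun (congrFun e (0 : Fin r)) (0 : Fin r)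
  | Y =>
    refine bm_zero_ne fun e => ?_
    have := congrFun (congrFun e (0 : Fin r)) (o1 : Fin r)
    simp [o1_ne (h rfl), Ne.symm (o1_ne (h rfl))] at this

lemma kmat_skew (k : Knd) : (kmat k : Matrix (Fin (r + r)) (Fin (r + r)) F)ᵀ * jm r F =
    (if k = Knd.E then (-1 : F) else 1) • (jm r F * kmat k) := by
  cases k with
  | I => simp [kmat]
  | E =>
    simp only [kmat, ee, jm, bm_transpose, bm_mul, bm_smul, if_true]
    simp [Matrix.transpose_single]
  | Y =>
    simp only [kmat, yy, jm, bm_transpose, bm_mul, bm_smul, if_neg (by decide : Knd.Y ≠ Knd.E)]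
    simp [Matrix.transpose_single]

lemma UL_skew (L : Fin t → Knd) : (UL L : Mt t (r + r) F)ᵀ * jt t r F =
    (∏ l, if L l = Knd.E then (-1 : F) else 1) • (jt t r F * UL L) := by
  rw [UL, tens_transpose, jt, tens_mul, tens_mul, ← tens_smul]
  simp only [kmat_skew]

lemma UL_update (L : Fin t → Knd) {j : Fin t} (hj : L j = Knd.I) (k : Knd) :
    (UL (Function.update L j k) : Mt t (r + r) F) = UL L * slot j (kmat k) := by
  rw [UL, UL, tens_mul_slot_eq]
  congr 1
  funext l
  rcases eq_or_ne l j with rfl | hl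
  · simp [hj, kmat]
  · simp [Function.update_of_ne hl]

namespace SpBad

variable {M : Subgroup (GL (Fin t → Fin (r + r)) F)}

/-- `C` commutes with the factors of `L` and gives a member together with it. -/
def Xi (M : Subgroup (GL (Fin t → Fin (r + r)) F)) (L : Fin t → Knd) (C : Mt t (r + r) F) : Prop :=
  (∀ l, L l ≠ Knd.I → Com l C) ∧ Mem M (1 + UL L * C)

/-- The upper blocks on the factor `j` giving members together with `L`. -/
def ups (M : Subgroup (GL (Fin t → Fin (r + r)) F)) (L : Fin t → Knd) (j : Fin t) :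
    Set (Matrix (Fin r) (Fin r) (Mt t (r + r) F)) :=
  {B | (∀ a b, Com j (B a b) ∧ ∀ l, L l ≠ Knd.I → Com l (B a b)) ∧ Mem M (1 + UL L * upR j B)}

lemma UL_comm {L : Fin t → Knd} {C : Mt t (r + r) F} (h : ∀ l, L l ≠ Knd.I → Com l C) :
    UL L * C = C * UL L :=
  tens_comm fun l hl => h l fun e => hl (by rw [e]; rfl)

lemma com_upR {l j : Fin t} (hlj : l ≠ j) {B : Matrix (Fin r) (Fin r) (Mt t (r + r) F)}
    (h : ∀ a b, Com l (B a b)) : Com l (upR j B) :=
  com_sum _ fun a _ => com_sum _ fun b _ => (com_eu hlj _ _).mul (h a b)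

lemma smul_of_sq (h2 : (2 : F) ≠ 0) {X : Mt t (r + r) F} (hXX : X * X = 0)
    (h : ∀ c : F, c ≠ 0 → Mem M (1 + (c * c) • X)) (c : F) : Mem M (1 + c • X) := by
  have h' : ∀ c : F, Mem M (1 + (c * c) • X) := fun c => by
    rcases eq_or_ne c 0 with rfl | hc
    · simpa using (Mem.one : Mem M (1 : Mt t (r + r) F))
    · exact h c hc
  have hsq : ∀ a b : F, (a • X) * (b • X) = 0 := fun a b => by rw [smul_mul_smul_comm, hXX, smul_zero]
  have h1 : Mem M (1 + -(((c - 1) / 2 * ((c - 1) / 2)) • X)) := by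
    rw [← sub_eq_add_neg]; exact (h' _).one_sub (hsq _ _)
  have := (h' ((c + 1) / 2)).add' h1 (by rw [← neg_smul, hsq])
  rwa [← sub_eq_add_neg, ← sub_smul, show (c + 1) / 2 * ((c + 1) / 2) - (c - 1) / 2 * ((c - 1) / 2) = c by
    field_simp; ring] at this

lemma lev_inv {H H' : Matrix (Fin r) (Fin r) F} (h : Hᵀ * H' = 1) : bm H 0 0 H' * bm H'ᵀ 0 0 Hᵀ = 1 := by
  have h1 : H * H'ᵀ = 1 := mul_eq_one_comm.1 (by
    rw [← Matrix.transpose_one, ← h, Matrix.transpose_mul, Matrix.transpose_transpose])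
  rw [bm_mul, ← bm_one]
  simp [h1, mul_eq_one_comm.1 h]

lemma conj_slot_UL (hM : SpBad M) {L : Fin t → Knd} {C : Mt t (r + r) F} (hC : Mem M (1 + UL L * C)) {j : Fin t}
    (hj : L j = Knd.I) {h k : Matrix (Fin (r + r)) (Fin (r + r)) F} (hh : IsSp h) (hk : h * k = 1) :
    Mem M (1 + UL L * (slot j h * C * slot j k)) := by
  have hc : slot j h * UL L = UL L * slot j h := (com_tens (a := fun l => kmat (L l)) (by simp [hj, kmat])).slot_comm h
  have := hM.conj_slot hC j hh hk
  rwa [← mul_assoc (slot j h), hc, mul_assoc, mul_assoc, ← mul_assoc (slot j h)] at this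

lemma Xi.conj (hM : SpBad M) {L : Fin t → Knd} {C : Mt t (r + r) F} (hC : Xi M L C) {j : Fin t}
    (hj : L j = Knd.I) {h k : Matrix (Fin (r + r)) (Fin (r + r)) F} (hh : IsSp h) (hk : h * k = 1) :
    Xi M L (slot j h * C * slot j k) :=
  ⟨fun l hl => ((com_slot (fun e : l = j => hl (by rw [e, hj])) _).mul (hC.1 l hl)).mul
    (com_slot (fun e : l = j => hl (by rw [e, hj])) _), hM.conj_slot_UL hC.2 hj hh hk⟩

lemma Xi.add {L : Fin t → Knd} {l : Fin t} (hl : L l ≠ Knd.I) {C D : Mt t (r + r) F} (hC : Xi M L C) (hD : Xi M L D) :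
    Xi M L (C + D) := by
  refine ⟨fun l hl => (hC.1 l hl).add (hD.1 l hl), ?_⟩
  rw [mul_add]
  refine hC.2.add' hD.2 ?_
  rw [mul_assoc, ← mul_assoc C, ← UL_comm hC.1, mul_assoc, ← mul_assoc, UL_sq hl, zero_mul]

lemma Xi.smul (hM : SpBad M) (h2 : (2 : F) ≠ 0) {L : Fin t → Knd} {l : Fin t} (hl : L l ≠ Knd.I)
    {C : Mt t (r + r) F} (hC : Xi M L C) (c : F) : Xi M L (c • C) := by
  refine ⟨fun l hl => (hC.1 l hl).smul c, ?_⟩
  rw [mul_smul_comm]
  refine smul_of_sq h2 ?_ (fun c hc => ?_) c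
  · rw [mul_assoc, ← mul_assoc C, ← UL_comm hC.1, mul_assoc, ← mul_assoc, UL_sq hl, zero_mul]
  set H : Matrix (Fin r) (Fin r) F := c • 1
  set H' : Matrix (Fin r) (Fin r) F := c⁻¹ • 1
  have hH : Hᵀ * H' = 1 := by simp [H, H', smul_smul, hc]
  have := hM.conj_slot hC.2 l (isSp_lev hH) (lev_inv hH)
  rwa [← mul_assoc (slot l (bm H 0 0 H')), mul_assoc _ C, ← (hC.1 l hl).slot_comm, ← mul_assoc, UL, slot_mul_tens,
    tens_mul_slot_eq, Function.update_idem, Function.update_self,
    show bm H 0 0 H' * kmat (L l) * bm H'ᵀ 0 0 Hᵀ = (c * c) • kmat (L l) from ?_, tens_update_smul,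
    Function.update_eq_self, smul_mul_assoc] at this
  cases hk : L l with
  | I => exact absurd hk hl
  | E => simp [kmat, ee, bm_mul, bm_smul, H, H', smul_smul]
  | Y => simp [kmat, yy, bm_mul, bm_smul, H, H', smul_smul]

lemma levSet_ups (hM : SpBad M) (h2 : (2 : F) ≠ 0) {L : Fin t → Knd} {j : Fin t} (hj : L j = Knd.I) :
    LevSet (ups M L j) := by
  have hprod : ∀ A ∈ ups M L j, ∀ B ∈ ups M L j, (UL L * upR j A) * (UL L * upR j B) = 0 := by
    intro A hA B hB
    have e : upR j A * upR j B = 0 := rep_injective j (by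
      rw [map_mul, rep_upR fun a b => (hA.1 a b).1, rep_upR fun a b => (hB.1 a b).1, map_zero,
        Matrix.fromBlocks_multiply]
      simp)
    rw [mul_assoc, ← mul_assoc (upR j A),
      ← UL_comm fun l hl => com_upR (fun e : l = j => hl (by rw [e, hj])) fun a b => (hA.1 a b).2 l hl,
      mul_assoc, ← mul_assoc, e, mul_zero]
  have hcong : ∀ H H' : Matrix (Fin r) (Fin r) F, Hᵀ * H' = 1 → ∀ B ∈ ups M L j, em H * B * em Hᵀ ∈ ups M L j := by
    intro H H' h B hB
    refine ⟨fun a b => ?_, ?_⟩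
    · simp only [mul_em_apply, em_mul_apply]
      exact ⟨com_sum _ fun k _ => (com_sum _ fun s _ => (hB.1 s k).1.smul _).smul _,
        fun l hl => com_sum _ fun k _ => (com_sum _ fun s _ => ((hB.1 s k).2 l hl).smul _).smul _⟩
    · have := hM.conj_slot_UL hB.2 hj (isSp_lev h) (lev_inv h)
      rwa [show slot j (bm H 0 0 H') * upR j B * slot j (bm H'ᵀ 0 0 Hᵀ) = upR j (em H * B * em Hᵀ) from
        eq_upR (by
          rw [map_mul, map_mul, rep_slot, rep_slot, rep_upR fun a b => (hB.1 a b).1, map_zero,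
            Matrix.fromBlocks_multiply, Matrix.fromBlocks_multiply]
          simp)] at this
  refine ⟨fun A hA B hB => ⟨fun a b => ⟨(hA.1 a b).1.add (hB.1 a b).1,
    fun l hl => ((hA.1 a b).2 l hl).add ((hB.1 a b).2 l hl)⟩, ?_⟩, fun c A hA => ⟨fun a b => ⟨(hA.1 a b).1.smul c,
    fun l hl => ((hA.1 a b).2 l hl).smul c⟩, ?_⟩, hcong⟩
  · rw [upR_add, mul_add]
    exact hA.2.add' hB.2 (hprod A hA B hB)
  · rw [upR_smul, mul_smul_comm]
    refine smul_of_sq h2 (hprod A hA A hA) (fun c hc => ?_) c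
    have h := hcong (c • 1) (c⁻¹ • 1) (by simp [smul_smul, hc]) A hA
    rw [show em (c • (1 : Matrix (Fin r) (Fin r) F)) * A * em (c • (1 : Matrix (Fin r) (Fin r) F))ᵀ = (c * c) • A from
      Matrix.ext fun a b => by simp [mul_em_apply, em_mul_apply, Matrix.one_apply, smul_smul]] at h
    rw [← mul_smul_comm, ← upR_smul]
    exact h.2

/-- A member of the blocks at one place gives a member with one more factor. -/
lemma xi_of_single (hM : SpBad M) {L : Fin t → Knd} {j : Fin t} (hj : L j = Knd.I) {C : Mt t (r + r) F}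
    {k : Knd} (hk : k ≠ Knd.I) (W : Matrix (Fin r) (Fin r) F) (hW : kmat k = bm 0 W 0 0)
    {B : Matrix (Fin r) (Fin r) (Mt t (r + r) F)} (hB : B ∈ ups M L j) (hBW : B = em W * Matrix.diagonal fun _ => C)
    (hC : Com j C) (hCL : ∀ l, L l ≠ Knd.I → Com l C) : Xi M (Function.update L j k) C := by
  refine ⟨fun l hl => ?_, ?_⟩
  · rcases eq_or_ne l j with rfl | hlj
    · exact hC
    · exact hCL l (by rwa [Function.update_of_ne hlj] at hl)
  · have h := hB.2
    rwa [show upR j B = slot j (kmat k) * C from (eq_upR (by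
      rw [map_mul, hW, rep_slot, rep_com hC, hBW, map_zero, diagonal_eq_fromBlocks, Matrix.fromBlocks_multiply]
      simp)).symm, ← mul_assoc, ← UL_update L hj] at h

lemma em_single_diag (a b : Fin r) (C : Mt t (r + r) F) :
    (em (Matrix.single a b (1 : F)) * Matrix.diagonal fun _ => C) = Matrix.single a b C :=
  Matrix.ext fun u v => by simp [Matrix.mul_diagonal, em_apply, Matrix.single_apply]

/-- An entry on or symmetric to the diagonal, or an entry of a skew member, moves to the standard places. -/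
lemma xi_of_sym (hM : SpBad M) (h2 : (2 : F) ≠ 0) {L : Fin t → Knd} {j : Fin t} (hj : L j = Knd.I)
    {B : Matrix (Fin r) (Fin r) (Mt t (r + r) F)} (hB : B ∈ ups M L j) (a b : Fin r) :
    Xi M (Function.update L j Knd.E) (B a b + B b a) := by
  have hS := hM.levSet_ups h2 hj
  have hmem : Matrix.single (0 : Fin r) 0 (B a b + B b a) ∈ ups M L j := by
    rcases eq_or_ne a b with rfl | hab
    · simpa [← Matrix.single_add] using hS.add _ (hS.diag_mem h2 hB 0 a) _ (hS.diag_mem h2 hB 0 a)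
    · exact hS.sym_mem h2 hB 0 hab
  exact hM.xi_of_single hj (by decide) _ rfl hmem (em_single_diag 0 0 _).symm
    ((hB.1 a b).1.add (hB.1 b a).1) fun l hl => ((hB.1 a b).2 l hl).add ((hB.1 b a).2 l hl)

lemma xi_of_skew (hM : SpBad M) (h2 : (2 : F) ≠ 0) {L : Fin t → Knd} {j : Fin t} (hj : L j = Knd.I)
    {B : Matrix (Fin r) (Fin r) (Mt t (r + r) F)} (hB : B ∈ ups M L j) {a b : Fin r} (hab : a ≠ b)
    (hanti : B b a = -B a b) : 2 ≤ r ∧ Xi M (Function.update L j Knd.Y) (B a b) := by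
  have hr : 2 ≤ r := by
    by_contra h
    exact hab (Fin.ext (by have := a.2; have := b.2; omega))
  have hS := hM.levSet_ups h2 hj
  refine ⟨hr, hM.xi_of_single hj (by decide) _ rfl (hS.antisym_mem h2 hB (o1_ne hr) hab hanti) ?_ (hB.1 a b).1
    (hB.1 a b).2⟩
  rw [map_sub, sub_mul, em_single_diag, em_single_diag]

/-- An upper part of a member on a factor with which it does not commute. -/
lemma exists_upper (hM : SpBad M) (h2 : (2 : F) ≠ 0) {L : Fin t → Knd} {l₀ : Fin t} (hl₀ : L l₀ ≠ Knd.I)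
    {C : Mt t (r + r) F} (hC : Xi M L C) {j : Fin t} (hj : L j = Knd.I) (hCj : ¬ Com j C) :
    ∃ B ∈ ups M L j, B ≠ 0 := by
  have hpack : ∀ (X : Mt t (r + r) F) (B : Matrix (Fin r) (Fin r) (Mt t (r + r) F)), Xi M L X →
      rep j X = Matrix.fromBlocks 0 B 0 0 → B ≠ 0 → ∃ B ∈ ups M L j, B ≠ 0 := by
    intro X B hX hrep hB0
    refine ⟨B, ⟨fun a b => ?_, by rw [← eq_upR hrep]; exact hX.2⟩, hB0⟩
    have e : B a b = rep j X (Sum.inl a) (Sum.inr b) := by rw [hrep]; rfl
    rw [e]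
    exact ⟨com_rep j X _ _, fun l hl => (hX.1 l hl).cmp (fun e => hl (by rw [e, hj])) _ _⟩
  -- the two differences
  have hdiff : ∀ (X : Mt t (r + r) F), Xi M L X → ∀ s : Matrix (Fin r) (Fin r) F, sᵀ = s →
      Xi M L (slot j (bm 0 s 0 0) * X * slot j (bm 0 s 0 0)) ∧
      Xi M L (slot j (bm 0 s 0 0) * X - X * slot j (bm 0 s 0 0)) := by
    intro X hX s hs
    have hinv : ∀ s : Matrix (Fin r) (Fin r) F, bm 1 s 0 1 * bm 1 (-s) 0 1 = 1 := fun s => by
      rw [bm_mul, ← bm_one]; simp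
    have hp := Xi.conj hM hX hj (isSp_up hs) (hinv s)
    have hm := Xi.conj hM hX hj (isSp_up (s := -s) (by rw [Matrix.transpose_neg, hs])) (hinv (-s))
    rw [neg_neg] at hm
    have e : ∀ s : Matrix (Fin r) (Fin r) F, (slot j (bm 1 s 0 1) : Mt t (r + r) F) = 1 + slot j (bm 0 s 0 0) :=
      fun s => by
        rw [show bm 1 s 0 1 = (1 : Matrix (Fin (r + r)) (Fin (r + r)) F) + bm 0 s 0 0 by
          rw [← bm_one, bm_add]; simp, slot_add, slot_one]
    have en : bm 0 (-s) 0 0 = -bm 0 s 0 0 := by rw [bm_neg, neg_zero]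
    rw [e, e, en, show slot j (-bm 0 s 0 0) = -(slot j (bm 0 s 0 0) : Mt t (r + r) F) from map_neg (slotL j) _] at hp hm
    set D : Mt t (r + r) F := slot j (bm 0 s 0 0)
    have hn := hX.smul hM h2 hl₀ (-2)
    constructor
    · have := ((hp.add hl₀ hm).add hl₀ hn).smul hM h2 hl₀ (-(2⁻¹ : F))
      rwa [show (1 + D) * X * (1 + -D) + (1 + -D) * X * (1 + D) + (-2 : F) • X = (-2 : F) • (D * X * D) by
        rw [neg_smul, two_smul, neg_smul, two_smul]; noncomm_ring, smul_smul, neg_mul_neg, inv_mul_cancel₀ h2,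
        one_smul] at this
    · have := (hp.add hl₀ (hm.smul hM h2 hl₀ (-1))).smul hM h2 hl₀ (2⁻¹ : F)
      rwa [show (1 + D) * X * (1 + -D) + (-1 : F) • ((1 + -D) * X * (1 + D)) = (2 : F) • (D * X - X * D) by
        rw [neg_one_smul, two_smul]; noncomm_ring, smul_smul, inv_mul_cancel₀ h2, one_smul] at this
  have hlow : ∀ X, Xi M L X → (rep j X).toBlocks₂₁ ≠ 0 → ∃ B ∈ ups M L j, B ≠ 0 := by
    intro X hX h0
    refine hpack _ _ (hdiff X hX 1 Matrix.transpose_one).1 ?_ h0
    rw [map_mul, map_mul, rep_slot, map_zero, map_one]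
    conv_lhs => rw [← Matrix.fromBlocks_toBlocks (rep j X)]
    rw [Matrix.fromBlocks_multiply, Matrix.fromBlocks_multiply]
    simp
  by_cases h21 : (rep j C).toBlocks₂₁ ≠ 0
  · exact hlow C hC h21
  push Not at h21
  by_cases h12 : (rep j C).toBlocks₁₂ ≠ 0
  · have hJ : jm r F * bm 0 1 (-1) 0 = 1 := by rw [jm, bm_mul, ← bm_one]; simp
    refine hlow _ (Xi.conj hM hC hj isSp_jm hJ) fun h0 => h12 ?_
    rw [map_mul, map_mul, jm, rep_slot, rep_slot, map_zero, map_one, map_neg, map_one,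
      ← Matrix.fromBlocks_toBlocks (rep j C), Matrix.fromBlocks_multiply, Matrix.fromBlocks_multiply,
      Matrix.toBlocks_fromBlocks₂₁] at h0
    simpa using h0
  push Not at h12
  set A := (rep j C).toBlocks₁₁ with hA
  set D := (rep j C).toBlocks₂₂ with hD
  have hrepC : rep j C = Matrix.fromBlocks A 0 0 D := by
    rw [← Matrix.fromBlocks_toBlocks (rep j C), h12, h21]
  by_contra hcon
  have hcomm : ∀ s : Matrix (Fin r) (Fin r) F, sᵀ = s → em s * D = A * em s := by
    intro s hs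
    by_contra hne
    refine hcon (hpack _ (em s * D - A * em s) (hdiff C hC s hs).2 ?_ (sub_ne_zero.2 hne))
    rw [map_sub, map_mul, map_mul, rep_slot, map_zero, hrepC, Matrix.fromBlocks_multiply, Matrix.fromBlocks_multiply,
      sub_eq_add_neg, Matrix.fromBlocks_neg, Matrix.fromBlocks_add]
    simp [sub_eq_add_neg]
  have hDA : D = A := by simpa using hcomm 1 Matrix.transpose_one
  have hoff : ∀ a b, a ≠ b → A a b = 0 := fun a b hab => by
    have h := congrFun (congrFun (hcomm (Matrix.single a a 1) (Matrix.transpose_single _ _ _)) a) b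
    simpa [hDA, em_mul_apply, mul_em_apply, Matrix.single_apply, hab, Ne.symm hab] using h
  have hdiag : ∀ a b, A a a = A b b := fun a b => by
    rcases eq_or_ne a b with rfl | hab
    · rfl
    have h := congrFun (congrFun (hcomm (Matrix.single a b 1 + Matrix.single b a 1) (by
      rw [Matrix.transpose_add, Matrix.transpose_single, Matrix.transpose_single, add_comm])) a) b
    simpa [hDA, map_add, mul_add, add_mul, em_mul_apply, mul_em_apply, Matrix.single_apply, hab, Ne.symm hab] using h.symm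
  refine hCj ?_
  have hd : Com j (A 0 0) := com_rep j C (Sum.inl 0) (Sum.inl 0)
  have hAd : A = Matrix.diagonal fun _ => A 0 0 := Matrix.ext fun a b => by
    rcases eq_or_ne a b with rfl | hab
    · rw [Matrix.diagonal_apply_eq]; exact hdiag a 0
    · rw [Matrix.diagonal_apply_ne _ hab]; exact hoff a b hab
  rwa [show C = A 0 0 from rep_injective j (by
    rw [rep_com hd, diagonal_eq_fromBlocks, ← hAd, hrepC, hDA])]

/-- A member with a non-scalar part gives one with one more factor. -/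
lemma xi_step (hM : SpBad M) (h2 : (2 : F) ≠ 0) {L : Fin t → Knd} {l₀ : Fin t} (hl₀ : L l₀ ≠ Knd.I)
    {C : Mt t (r + r) F} (hC : Xi M L C) (hns : ¬ ∃ c : F, C = c • 1) :
    ∃ j, L j = Knd.I ∧ ∃ k C', k ≠ Knd.I ∧ (k = Knd.Y → 2 ≤ r) ∧ C' ≠ 0 ∧
      Xi M (Function.update L j k) C' := by
  obtain ⟨j, hCj⟩ : ∃ j, ¬ Com j C := by
    by_contra h
    push Not at h
    exact hns (scalar_of_com h)
  have hj : L j = Knd.I := by
    by_contra h
    exact hCj (hC.1 j h)
  obtain ⟨B, hB, hB0⟩ := hM.exists_upper h2 hl₀ hC hj hCj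
  refine ⟨j, hj, ?_⟩
  by_cases hsym : ∃ a b, B a b + B b a ≠ 0
  · obtain ⟨a, b, hab⟩ := hsym
    exact ⟨Knd.E, _, by decide, fun h => absurd h (by decide), hab, hM.xi_of_sym h2 hj hB a b⟩
  push Not at hsym
  obtain ⟨a, b, hab⟩ : ∃ a b, B a b ≠ 0 := by
    by_contra hc; push Not at hc; exact hB0 (Matrix.ext hc)
  have hne : a ≠ b := by
    rintro rfl
    refine hab ?_
    have := hsym a a
    rwa [← two_smul F (B a a), smul_eq_zero_iff_right h2] at this
  obtain ⟨hr, hX⟩ := hM.xi_of_skew h2 hj hB hne (eq_neg_of_add_eq_zero_right (hsym a b))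
  exact ⟨Knd.Y, _, by decide, fun _ => hr, hab, hX⟩

/-- Members with ever more factors end at one with a scalar coefficient. -/
lemma xi_end (hM : SpBad M) (h2 : (2 : F) ≠ 0) : ∀ (n : ℕ) (L : Fin t → Knd),
    (Finset.univ.filter fun l => L l = Knd.I).card = n → Wf r L → ∀ {l₀ l₁ : Fin t}, l₀ ≠ l₁ → L l₀ ≠ Knd.I →
    L l₁ ≠ Knd.I → ∀ {C : Mt t (r + r) F}, C ≠ 0 → Xi M L C →
    ∃ L' : Fin t → Knd, Wf r L' ∧ L' l₀ ≠ Knd.I ∧ L' l₁ ≠ Knd.I ∧ Xi M L' 1 := by
  intro n
  induction n using Nat.strong_induction_on with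
  | _ n ih =>
    intro L hn hwf l₀ l₁ h01 hl₀ hl₁ C hC0 hC
    by_cases hs : ∃ c : F, C = c • 1
    · obtain ⟨c, rfl⟩ := hs
      have hc : c ≠ 0 := fun h => hC0 (by rw [h, zero_smul])
      refine ⟨L, hwf, hl₀, hl₁, ?_⟩
      simpa [smul_smul, hc] using hC.smul hM h2 hl₀ c⁻¹
    obtain ⟨j, hj, k, C', hk, hkY, hC'0, hC'⟩ := hM.xi_step h2 hl₀ hC hs
    have h0 : ∀ l, L l ≠ Knd.I → Function.update L j k l ≠ Knd.I := fun l hl => by
      rwa [Function.update_of_ne fun e : l = j => hl (by rw [e, hj])]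
    refine ih _ ?_ (Function.update L j k) rfl (fun l hl => ?_) h01 (h0 _ hl₀) (h0 _ hl₁) hC'0 hC'
    · rw [← hn]
      refine Finset.card_lt_card ((Finset.ssubset_iff_of_subset fun l hl => ?_).2 ⟨j, by simp [hj], by simp [hk]⟩)
      simp only [Finset.mem_filter, Finset.mem_univ, true_and] at hl ⊢
      by_contra h
      exact h0 l h hl
    · rcases eq_or_ne l j with rfl | hlj
      · exact hkY (by simpa using hl)
      · exact hwf l (by rwa [Function.update_of_ne hlj] at hl)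

lemma jt_mul_ne_zero {L : Fin t → Knd} (hwf : Wf r L) : jt t r F * UL L ≠ (0 : Mt t (r + r) F) := by
  intro h
  have h' := congrArg (jt t r F * ·) h
  simp only [mul_zero, ← mul_assoc, UL, jt, tens_mul, jm_sq, neg_mul, one_mul] at h'
  exact tens_ne_zero (fun l => neg_ne_zero.2 (kmat_ne_zero (hwf l))) h'

lemma odd_of_xi (hM : SpBad M) (h2 : (2 : F) ≠ 0) {L : Fin t → Knd} (hwf : Wf r L) {l₀ : Fin t}
    (hl₀ : L l₀ ≠ Knd.I) (hX : Xi M L 1) : Odd (Finset.univ.filter fun l => L l = Knd.E).card := by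
  have h := hX.2
  rw [mul_one] at h
  have hs := hM.skew h (UL_sq hl₀)
  rw [UL_skew, Finset.prod_ite, Finset.prod_const, Finset.prod_const, one_pow, mul_one] at hs
  rcases Nat.even_or_odd (Finset.univ.filter fun l => L l = Knd.E).card with he | ho
  · rw [he.neg_one_pow, one_smul, eq_neg_iff_add_eq_zero, ← two_smul F (jt t r F * UL L), smul_eq_zero_iff_right h2] at hs
    exact absurd hs (jt_mul_ne_zero hwf)
  · exact ho

/-- A member `1 + upR i B` with a non-scalar entry gives a pure tensor on two factors or more. -/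
theorem xi_of_ups (hM : SpBad M) (h2 : (2 : F) ≠ 0) {i : Fin t} {B : Matrix (Fin r) (Fin r) (Mt t (r + r) F)}
    (hB : B ∈ ups M (fun _ => Knd.I) i) {a b : Fin r} (hns : ¬ ∃ c : F, B a b = c • 1) :
    ∃ L : Fin t → Knd, Wf r L ∧ (∃ l₀ l₁, l₀ ≠ l₁ ∧ L l₀ ≠ Knd.I ∧ L l₁ ≠ Knd.I) ∧
      Odd (Finset.univ.filter fun l => L l = Knd.E).card ∧ Xi M L 1 := by
  have fin : ∀ (k : Knd) (C : Mt t (r + r) F), k ≠ Knd.I → (k = Knd.Y → 2 ≤ r) → (¬ ∃ c : F, C = c • 1) →
      Xi M (Function.update (fun _ : Fin t => Knd.I) i k) C →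
      ∃ L : Fin t → Knd, Wf r L ∧ (∃ l₀ l₁, l₀ ≠ l₁ ∧ L l₀ ≠ Knd.I ∧ L l₁ ≠ Knd.I) ∧
        Odd (Finset.univ.filter fun l => L l = Knd.E).card ∧ Xi M L 1 := by
    intro k C hk hkY hC hX
    set L := Function.update (fun _ : Fin t => Knd.I) i k with hL
    have hi : L i ≠ Knd.I := by simp [hL, hk]
    obtain ⟨j, hj, k', C', hk', hkY', hC', hX'⟩ := hM.xi_step h2 hi hX hC
    have hji : j ≠ i := fun e => hi (e ▸ hj)
    obtain ⟨L', hwf, hl₀, hl₁, hX''⟩ := hM.xi_end h2 _ _ rfl (fun l hl => by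
      rcases eq_or_ne l j with rfl | hlj
      · exact hkY' (by simpa using hl)
      · rw [Function.update_of_ne hlj] at hl
        rcases eq_or_ne l i with rfl | hli
        · exact hkY (by simpa [hL] using hl)
        · simp [hL, Function.update_of_ne hli] at hl) hji.symm
      (by rw [Function.update_of_ne hji.symm]; exact hi) (by simp [hk']) hC' hX'
    exact ⟨L', hwf, ⟨i, j, hji.symm, hl₀, hl₁⟩, hM.odd_of_xi h2 hwf hl₀ hX'', hX''⟩
  by_cases hsym : ∃ a b, ¬ ∃ c : F, B a b + B b a = c • 1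
  · obtain ⟨a, b, h⟩ := hsym
    exact fin _ _ (by decide) (fun h => absurd h (by decide)) h (hM.xi_of_sym h2 rfl hB a b)
  push Not at hsym
  choose s hs using hsym
  have hss : ∀ a b, s a b = s b a := fun a b =>
    smul_left_injective F (one_ne_zero (α := Mt t (r + r) F)) (by simp only [← hs, add_comm])
  set s' : Matrix (Fin r) (Fin r) F := Matrix.of fun a b => s a b / 2
  have hs' : em s' ∈ ups M (fun _ : Fin t => Knd.I) i :=
    ⟨fun a b => ⟨by rw [em_apply]; exact (com_one i).smul _, fun l hl => absurd rfl hl⟩, by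
      rw [upR_em, show (UL (fun _ : Fin t => Knd.I) : Mt t (r + r) F) = 1 from tens_one, one_mul]
      exact hM.slot_up_mem i (Matrix.ext fun a b => by simp [s', hss a b])⟩
  have hB' := (hM.levSet_ups h2 (j := i) rfl).sub hB hs'
  have hanti : ∀ a b, (B - em s' : Matrix (Fin r) (Fin r) (Mt t (r + r) F)) b a = -(B - em s' : Matrix (Fin r) (Fin r) (Mt t (r + r) F)) a b := fun a b => by
    rw [eq_neg_iff_add_eq_zero, Matrix.sub_apply, Matrix.sub_apply, em_apply, em_apply]
    simp only [s', Matrix.of_apply, hss b a]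
    haveI : NeZero (2 : F) := ⟨h2⟩
    rw [sub_add_sub_comm, add_comm (B b a), hs, ← add_smul, ← sub_smul, add_halves, sub_self, zero_smul]
  have hab : a ≠ b := by
    rintro rfl
    refine hns ⟨s a a / 2, ?_⟩
    have := hanti a a
    rw [eq_neg_iff_add_eq_zero, Matrix.sub_apply, ← two_smul F (B a a - _), smul_eq_zero_iff_right h2, sub_eq_zero, em_apply] at this
    exact this
  obtain ⟨hr, hX⟩ := hM.xi_of_skew h2 (j := i) rfl hB' hab (hanti a b)
  refine fin _ _ (by decide) (fun _ => hr) (fun ⟨c, hc⟩ => hns ⟨c + s' a b, ?_⟩) hX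
  rw [Matrix.sub_apply, em_apply, sub_eq_iff_eq_add] at hc
  rw [hc, add_smul]

end SpBad

end CfsgLib.Geo.TensorPow
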