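/-
All transvections lie in an overgroup of the factors once one with a coordinate centre does.
-/
import Cfsg.Agent.Geo.TensorPow.Sp.Chain
import Cfsg.Agent.Classical.SymplecticBasic

set_option autoImplicit false
set_option linter.unusedSectionVars false

namespace CfsgLib.Geo.TensorPow

open Matrix CfsgLib.Aschbacher
open scoped MatrixGroups

variable {F : Type*} [Field F] {t r : ℕ} [NeZero r]

local notation "V" => ((Fin t → Fin (r + r)) → F)

/-- The opposite coordinate of a factor. -/
def opp (p : Fin (r + r)) : Fin (r + r) := hv r ((hv r).symm p).swap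

lemma opp_opp (p : Fin (r + r)) : opp (opp p) = p := by simp [opp]

lemma jm_apply_ne {p q : Fin (r + r)} (h : q ≠ opp p) : jm r F p q = 0 := by
  obtain ⟨u, rfl⟩ := (hv r).surjective p
  obtain ⟨v, rfl⟩ := (hv r).surjective q
  have h' : v ≠ u.swap := fun e => h (by rw [opp, Equiv.symm_apply_apply, e])
  rw [jm, bm_apply]
  rcases u with u | u <;> rcases v with v | v <;> simp_all [Matrix.one_apply, eq_comm]

lemma jm_apply_opp (p : Fin (r + r)) : jm r F p (opp p) ≠ 0 := by
  obtain ⟨u, rfl⟩ := (hv r).surjective p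
  rw [opp, Equiv.symm_apply_apply, jm, bm_apply]
  rcases u with u | u <;> simp

/-- The opposite coordinate of the tensor power. -/
def oppT (x : Fin t → Fin (r + r)) : Fin t → Fin (r + r) := fun l => opp (x l)

lemma oppT_oppT (x : Fin t → Fin (r + r)) : oppT (oppT x) = x := funext fun l => opp_opp _

lemma jt_apply_ne {x y : Fin t → Fin (r + r)} (h : y ≠ oppT x) : jt t r F x y = 0 := by
  obtain ⟨l, hl⟩ := Function.ne_iff.1 h
  exact Finset.prod_eq_zero (Finset.mem_univ l) (jm_apply_ne hl)

lemma jt_apply_opp (x : Fin t → Fin (r + r)) : jt t r F x (oppT x) ≠ 0 :=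
  by simp only [jt, tens, Matrix.of_apply]; exact Finset.prod_ne_zero_iff.2 fun l _ => jm_apply_opp _

/-- The form on coordinate vectors. -/
def om (u v : V) : F := u ᵥ* jt t r F ⬝ᵥ v

lemma single_vecMul_jt (x : Fin t → Fin (r + r)) :
    (Pi.single x 1 : V) ᵥ* jt t r F = Pi.single (oppT x) (jt t r F x (oppT x)) := by
  funext y
  rw [Matrix.single_vecMul, one_smul]
  rcases eq_or_ne y (oppT x) with rfl | h
  · simp [Matrix.row]
  · rw [Pi.single_eq_of_ne h]; exact jt_apply_ne h

lemma om_single (x : Fin t → Fin (r + r)) (v : V) :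
    om (Pi.single x 1) v = jt t r F x (oppT x) * v (oppT x) := by
  rw [om, single_vecMul_jt, single_dotProduct]

lemma om_add_left (u u' v : V) : om (u + u') v = om u v + om u' v := by
  simp [om, Matrix.add_vecMul, add_dotProduct]

lemma om_smul_left (c : F) (u v : V) : om (c • u) v = c * om u v := by
  simp [om, Matrix.smul_vecMul, smul_dotProduct]

lemma om_add_right (u v v' : V) : om u (v + v') = om u v + om u v' := by simp [om]

lemma om_smul_right (c : F) (u v : V) : om u (c • v) = c * om u v := by simp [om]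

lemma om_disjoint {u v : V} (h : ∀ x, u x = 0 ∨ v (oppT x) = 0) : om u v = 0 := by
  rw [om, dotProduct]
  refine Finset.sum_eq_zero fun y _ => ?_
  simp only [Matrix.vecMul, dotProduct, Finset.sum_mul]
  refine Finset.sum_eq_zero fun x _ => ?_
  rcases eq_or_ne y (oppT x) with rfl | hy
  · rcases h x with h' | h' <;> simp [h']
  · simp [jt_apply_ne hy]

lemma jt_transpose (ht : Odd t) : (jt t r F)ᵀ = -jt t r F := by
  rw [jt, tens_transpose, show (fun _ : Fin t => (jm r F)ᵀ) = fun _ => (-1 : F) • jm r F from
    funext fun _ => by rw [jm_transpose, neg_one_smul], tens_smul, Finset.prod_const, Finset.card_univ,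
    Fintype.card_fin, ht.neg_one_pow, neg_one_smul]

lemma om_swap (ht : Odd t) (u v : V) : om v u = -om u v := by
  rw [om, om, ← Matrix.dotProduct_mulVec, ← Matrix.vecMul_transpose, dotProduct_comm, jt_transpose ht,
    Matrix.vecMul_neg, neg_dotProduct]

lemma om_self (ht : Odd t) (h2 : (2 : F) ≠ 0) (u : V) : om u u = 0 := by
  have := om_swap ht u u
  rwa [eq_neg_iff_add_eq_zero, ← two_mul, mul_eq_zero, or_iff_right h2] at this

lemma tv_mulVec (v : V) (c : F) (x : V) :
    (1 + c • vecMulVec v (v ᵥ* jt t r F) : Mt t (r + r) F) *ᵥ x = x + (c * om v x) • v := by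
  rw [Matrix.add_mulVec, Matrix.one_mulVec, Matrix.smul_mulVec, Matrix.vecMulVec_mulVec, op_smul_eq_smul,
    smul_smul, om]

variable {M : Subgroup (GL (Fin t → Fin (r + r)) F)}

namespace SpBad

lemma fullAt_conj (hM : SpBad M) {G : Mt t (r + r) F} (hG : Mem M G) {v : V} (hv : FullAt M v) :
    FullAt M (G *ᵥ v) := by
  obtain ⟨g, hg, rfl⟩ := hG
  intro c
  have hiso := hM.iso g hg
  have hmem : Mem M (g : Mt t (r + r) F) := ⟨g, hg, rfl⟩
  have := hmem.conj (G' := ((g⁻¹ : GL (Fin t → Fin (r + r)) F) : Mt t (r + r) F)) (Units.mul_inv g) (hv c)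
  rwa [mul_smul_comm, smul_mul_assoc, Matrix.mul_vecMulVec, Matrix.vecMulVec_mul, Matrix.vecMul_vecMul,
    show jt t r F * ((g⁻¹ : GL (Fin t → Fin (r + r)) F) : Mt t (r + r) F) = (g : Mt t (r + r) F)ᵀ * jt t r F by
      conv_lhs => rw [← hiso]
      rw [mul_assoc _ (g : Mt t (r + r) F), Units.mul_inv, mul_one],
    ← Matrix.vecMul_vecMul, Matrix.vecMul_transpose] at this

lemma fullAt_smul {v : V} (hv : FullAt M v) (a : F) : FullAt M (a • v) := fun c => by
  rw [Matrix.smul_vecMulVec, Matrix.smul_vecMul, Matrix.vecMulVec_smul, smul_smul, smul_smul]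
  simpa [mul_assoc] using hv (c * (a * a))

lemma fullAt_zero : FullAt M (0 : V) := fun c => by simpa using (Mem.one : Mem M (1 : Mt t (r + r) F))

lemma fullAt_add (hM : SpBad M) {u v : V} (hu : FullAt M u) (hv : FullAt M v) (h : om u v ≠ 0) :
    FullAt M (v + u) := by
  have := hM.fullAt_conj (hu (om u v)⁻¹) hv
  rwa [tv_mulVec, inv_mul_cancel₀ h, one_smul] at this

/-- The vector is supported in the set. -/
def Sup (X : Finset (Fin t → Fin (r + r))) (v : V) : Prop := ∀ z, z ∉ X → v z = 0

lemma sup_single {X : Finset (Fin t → Fin (r + r))} {x : Fin t → Fin (r + r)} (h : x ∈ X) :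
    Sup X (Pi.single x 1 : V) := fun z hz => Pi.single_eq_of_ne (fun e => hz (by rw [e]; exact h)) _

/-- Transitivity within full vectors supported in a closed set, fixing the others. -/
lemma exists_moving (hM : SpBad M) (ht : Odd t) (h2 : (2 : F) ≠ 0) {X : Finset (Fin t → Fin (r + r))}
    (hX : ∀ x ∈ X, oppT x ∈ X) (hfull : ∀ v, Sup X v → FullAt M v) {u w : V} (hu : Sup X u) (hw : Sup X w)
    (hu0 : u ≠ 0) (hw0 : w ≠ 0) :
    ∃ G : Mt t (r + r) F, Mem M G ∧ G *ᵥ u = w ∧ ∀ p : V, (∀ x ∈ X, p x = 0) → G *ᵥ p = p := by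
  have key : ∀ u w : V, Sup X u → Sup X w → om w u ≠ 0 →
      ∃ G : Mt t (r + r) F, Mem M G ∧ G *ᵥ u = w ∧ ∀ p : V, (∀ x ∈ X, p x = 0) → G *ᵥ p = p := by
    intro u w hu hw h
    refine ⟨_, hfull (w - u) (fun z hz => by simp [hu z hz, hw z hz]) (om w u)⁻¹, ?_, fun p hp => ?_⟩
    · rw [tv_mulVec, show om (w - u) u = om w u by
        rw [sub_eq_add_neg, ← neg_one_smul F u, om_add_left, om_smul_left, om_self ht h2, mul_zero, add_zero],
        inv_mul_cancel₀ h, one_smul, add_sub_cancel]
    · have hd : om (w - u) p = 0 := om_disjoint fun x => by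
        by_cases hx : x ∈ X
        · exact Or.inr (hp _ (hX x hx))
        · exact Or.inl (by simp [hu x hx, hw x hx])
      rw [tv_mulVec, hd, mul_zero, zero_smul, add_zero]
  obtain ⟨z, hz, h1, h2'⟩ : ∃ z : V, Sup X z ∧ om z u ≠ 0 ∧ om w z ≠ 0 := by
    obtain ⟨x, hx⟩ := Function.ne_iff.1 hu0
    obtain ⟨y, hy⟩ := Function.ne_iff.1 hw0
    have hxX : x ∈ X := by by_contra hc; exact hx (hu x hc)
    have hyX : y ∈ X := by by_contra hc; exact hy (hw y hc)
    have e : ∀ (x : Fin t → Fin (r + r)) (v : V), v x ≠ 0 → om (Pi.single (oppT x) 1) v ≠ 0 := fun x v hv => by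
      rw [om_single, oppT_oppT]
      exact mul_ne_zero (by simpa [oppT_oppT] using jt_apply_opp (F := F) (oppT x)) hv
    set a : V := Pi.single (oppT x) 1
    set b : V := Pi.single (oppT y) 1
    have ha := e x u hx
    have hb : om w b ≠ 0 := by rw [om_swap ht, neg_ne_zero]; exact e y w hy
    by_cases h : om w a ≠ 0
    · exact ⟨a, sup_single (hX x hxX), ha, h⟩
    by_cases h' : om b u ≠ 0
    · exact ⟨b, sup_single (hX y hyX), h', hb⟩
    push Not at h h'
    refine ⟨a + b, fun z hz => by simp [sup_single (hX x hxX) z hz, sup_single (hX y hyX) z hz, a, b], ?_, ?_⟩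
    · rwa [om_add_left, h', add_zero]
    · rwa [om_add_right, h, zero_add]
  obtain ⟨G, hG, hGu, hGp⟩ := key u z hu hz h1
  obtain ⟨G', hG', hGz, hGp'⟩ := key z w hz hw h2'
  exact ⟨G' * G, hG'.mul hG, by rw [← Matrix.mulVec_mulVec, hGu, hGz],
    fun p hp => by rw [← Matrix.mulVec_mulVec, hGp p hp, hGp' p hp]⟩

lemma exists_isSp_mulVec {v : Fin (r + r) → F} (hv' : v ≠ 0) :
    ∃ h : Matrix (Fin (r + r)) (Fin (r + r)) F, IsSp h ∧ h *ᵥ Pi.single (hv r (Sum.inl 0)) 1 = v := by
  obtain ⟨g, hg⟩ := CfsgLib.Symp.exists_smul_eq_of_ne_zero (u := (Pi.single (Sum.inl 0) 1 : Fin r ⊕ Fin r → F))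
    (v := v ∘ hv r) (by simp) (fun h => hv' (funext fun p => by simpa using congrFun h ((hv r).symm p)))
  refine ⟨(g : Matrix (Fin r ⊕ Fin r) (Fin r ⊕ Fin r) F).submatrix (hv r).symm (hv r).symm, ?_, ?_⟩
  · rw [IsSp, jm, bm, show Matrix.fromBlocks (0 : Matrix (Fin r) (Fin r) F) (-1) 1 0 = Matrix.J (Fin r) F from rfl,
      Matrix.transpose_submatrix, Matrix.submatrix_mul_equiv, Matrix.submatrix_mul_equiv,
      SymplecticGroup.mem_iff'.1 g.2]
  · funext p
    have := congrFun hg ((hv r).symm p)
    simp only [Function.comp_apply, Equiv.apply_symm_apply] at this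
    rw [← this, Matrix.mulVec_single_one]
    show _ = ((g : Matrix (Fin r ⊕ Fin r) (Fin r ⊕ Fin r) F) *ᵥ _) _
    rw [Matrix.mulVec_single_one]
    simp

lemma slot_mulVec_single (l : Fin t) (h : Matrix (Fin (r + r)) (Fin (r + r)) F) (x z : Fin t → Fin (r + r)) :
    ((slot l h : Mt t (r + r) F) *ᵥ Pi.single x 1) z = if ∀ k, k ≠ l → z k = x k then h (z l) (x l) else 0 := by
  rw [Matrix.mulVec_single_one]
  exact slot_apply l h z x

/-- All transvections from one with a coordinate centre. -/
theorem fullAt_all (hM : SpBad M) (ht : Odd t) (h2 : (2 : F) ≠ 0)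
    (h0 : FullAt M (Pi.single (fun _ => hv r (Sum.inl 0)) 1 : V)) : ∀ v : V, FullAt M v := by
  classical
  set o : Fin (r + r) := hv r (Sum.inl 0) with ho
  -- all coordinate vectors
  have hbasis : ∀ x : Fin t → Fin (r + r), FullAt M (Pi.single x 1 : V) := by
    intro x
    suffices hs : ∀ s : Finset (Fin t), FullAt M (Pi.single (s.piecewise x fun _ => o) 1 : V) by
      simpa using hs Finset.univ
    intro s
    induction s using Finset.induction_on with
    | empty => simpa using h0
    | insert l s hl ih =>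
      obtain ⟨h, hh, hho⟩ := exists_isSp_mulVec (F := F) (v := Pi.single (x l) 1) (by simp)
      have h1 := hM.fullAt_conj (hM.slot_mem l h hh) ih
      convert h1 using 1
      funext z
      rw [slot_mulVec_single, Finset.piecewise_eq_of_notMem _ _ _ hl, show h (z l) o = (Pi.single (x l) 1 : _ → F) (z l) by
        rw [← hho, Matrix.mulVec_single_one]; rfl]
      rw [Finset.piecewise_insert, Pi.single_apply, Pi.single_apply]
      by_cases hz : z = Function.update (s.piecewise x fun _ => o) l (x l)
      · subst hz; simp +contextual [Function.update_of_ne]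
      · rw [if_neg hz]
        by_cases hk : ∀ k, k ≠ l → z k = s.piecewise x (fun _ => o) k
        · rw [if_pos hk, if_neg fun e => hz (funext fun k => ?_)]
          rcases eq_or_ne k l with rfl | hkl
          · simpa using e
          · simp [Function.update_of_ne hkl, hk k hkl]
        · rw [if_neg hk]
  -- the planes
  have hplane : ∀ y v, Sup ({y, oppT y} : Finset _) v → FullAt M (v : V) := by
    intro y v hv
    by_cases he : oppT y = y
    · rw [show v = v y • Pi.single y 1 from funext fun z => by
        rcases eq_or_ne z y with rfl | hz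
        · simp
        · simp [hz, hv z (by simp [he, hz])]]
      exact fullAt_smul (hbasis y) _
    rw [show v = v y • Pi.single y 1 + v (oppT y) • Pi.single (oppT y) 1 from funext fun z => by
      rcases eq_or_ne z y with rfl | hz
      · simp [Ne.symm he]
      · rcases eq_or_ne z (oppT y) with rfl | hz'
        · simp [he]
        · simp [hz, hz', hv z (by simp [hz, hz'])]]
    rcases eq_or_ne (v y) 0 with h | h
    · rw [h, zero_smul, zero_add]; exact fullAt_smul (hbasis _) _
    rcases eq_or_ne (v (oppT y)) 0 with h' | h'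
    · rw [h', zero_smul, add_zero]; exact fullAt_smul (hbasis _) _
    refine hM.fullAt_add (fullAt_smul (hbasis _) _) (fullAt_smul (hbasis _) _) ?_
    rw [om_smul_left, om_smul_right, om_single, oppT_oppT, Pi.single_eq_same, mul_one]
    exact mul_ne_zero h' (mul_ne_zero h (by simpa [oppT_oppT] using jt_apply_opp (F := F) (oppT y)))
  suffices hgrow : ∀ (n : ℕ) (X : Finset (Fin t → Fin (r + r))), Xᶜ.card = n → X.Nonempty →
      (∀ x ∈ X, oppT x ∈ X) → (∀ v : V, Sup X v → FullAt M v) → ∀ v : V, FullAt M v from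
    hgrow _ {fun _ => o, oppT fun _ => o} rfl (Finset.insert_nonempty _ _)
      (fun x hx => by
        rcases Finset.mem_insert.1 hx with rfl | hx
        · simp
        · rw [Finset.mem_singleton.1 hx, oppT_oppT]; simp) (hplane _)
  intro n
  induction n using Nat.strong_induction_on with
  | _ n ih =>
    intro X hn hne hX hfull
    by_cases hclosed : ∀ x ∈ X, ∀ l q, Function.update x l q ∈ X
    · obtain ⟨x₀, hx₀⟩ := hne
      have hu : ∀ x, x ∈ X := by
        intro x
        suffices hs : ∀ s : Finset (Fin t), s.piecewise x x₀ ∈ X by simpa using hs Finset.univ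
        intro s
        induction s using Finset.induction_on with
        | empty => simpa using hx₀
        | insert l s _ ihs => rw [Finset.piecewise_insert]; exact hclosed _ ihs l _
      exact fun v => hfull v fun z hz => absurd (hu z) hz
    push Not at hclosed
    obtain ⟨x, hx, l, q, hy⟩ := hclosed
    set y := Function.update x l q with hy'
    have hoy : oppT y ∉ X := fun h => hy (oppT_oppT y ▸ hX _ h)
    have hxy : x ≠ y := fun e => hy (e ▸ hx)
    -- a full vector meeting both parts
    have hbridge : FullAt M (Pi.single x 1 + Pi.single y 1 : V) := by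
      have hq : q ≠ x l := fun e => hxy (by rw [hy', e, Function.update_eq_self])
      obtain ⟨h, hh, hho⟩ := exists_isSp_mulVec (F := F) (v := Pi.single (x l) 1 + Pi.single q 1)
        (fun h => by have := congrFun h q; simp [hq] at this)
      have h1 := hM.fullAt_conj (hM.slot_mem l h hh) (hbasis (Function.update x l o))
      convert h1 using 1
      funext z
      rw [slot_mulVec_single, Function.update_self, show h (z l) o =
        (Pi.single (x l) 1 + Pi.single q 1 : _ → F) (z l) by rw [← hho, Matrix.mulVec_single_one]; rfl]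
      simp only [Pi.add_apply, Pi.single_apply]
      by_cases hk : ∀ k, k ≠ l → z k = Function.update x l o k
      · rw [if_pos hk]
        have e : ∀ w : Fin (r + r), z = Function.update x l w ↔ z l = w := fun w => ⟨fun e => by rw [e]; simp,
          fun e => funext fun k => by
            rcases eq_or_ne k l with rfl | hkl
            · simpa using e
            · simpa [Function.update_of_ne hkl] using hk k hkl⟩
        have e1 := e (x l)
        rw [Function.update_eq_self] at e1
        simp [hy', e1, e q]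
      · rw [if_neg hk, if_neg, if_neg, add_zero]
        · rintro rfl; exact hk fun k hkl => by simp [hy', Function.update_of_ne hkl]
        · rintro rfl; exact hk fun k hkl => by simp [Function.update_of_ne hkl]
    set Pl : Finset (Fin t → Fin (r + r)) := {y, oppT y}
    have hPl : ∀ z ∈ Pl, oppT z ∈ Pl := fun z hz => by
      rcases Finset.mem_insert.1 hz with rfl | hz
      · simp [Pl]
      · rw [Finset.mem_singleton.1 hz, oppT_oppT]; simp [Pl]
    have hdis : ∀ z ∈ Pl, z ∉ X := fun z hz => by
      rcases Finset.mem_insert.1 hz with rfl | hz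
      · exact hy
      · rw [Finset.mem_singleton.1 hz]; exact hoy
    refine ih (X ∪ Pl)ᶜ.card ?_ (X ∪ Pl) rfl (hne.mono Finset.subset_union_left) (fun z hz => ?_) fun v hv => ?_
    · rw [← hn]
      refine Finset.card_lt_card ((Finset.ssubset_iff_of_subset ?_).2 ⟨y, by simp [hy], by simp [Pl]⟩)
      exact Finset.compl_subset_compl.2 Finset.subset_union_left
    · rcases Finset.mem_union.1 hz with h | h
      · exact Finset.mem_union_left _ (hX z h)
      · exact Finset.mem_union_right _ (hPl z h)
    set w : V := fun z => if z ∈ X then v z else 0 with hw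
    set p : V := fun z => if z ∈ X then 0 else v z with hp
    have hvwp : v = w + p := funext fun z => by by_cases h : z ∈ X <;> simp [hw, hp, h]
    have hwX : Sup X w := fun z hz => by simp [hw, hz]
    have hpP : Sup Pl p := fun z hz => by
      by_cases h : z ∈ X
      · simp [hp, h]
      · simpa [hp, h] using hv z (by simp [h, hz])
    by_cases hp0 : p = 0
    · rw [hvwp, hp0, add_zero]; exact hfull w hwX
    by_cases hw0 : w = 0
    · rw [hvwp, hw0, zero_add]; exact hplane y p hpP
    obtain ⟨G, hG, hGx, hGfix⟩ := hM.exists_moving ht h2 hX hfull (sup_single hx) hwX (by simp) hw0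
    obtain ⟨G', hG', hGy, hG'fix⟩ := hM.exists_moving ht h2 hPl (hplane y) (sup_single (x := y) (by simp [Pl])) hpP
      (by simp) hp0
    have h1 := hM.fullAt_conj (hG'.mul hG) hbridge
    rwa [← Matrix.mulVec_mulVec, Matrix.mulVec_add, hGx, hGfix (Pi.single y 1) (fun z hz => Pi.single_eq_of_ne
      (fun e => hy (by rw [← e]; exact hz)) _), Matrix.mulVec_add, hGy, hG'fix w (fun z hz => hwX z (hdis z hz)), ← hvwp] at h1

end SpBad

end CfsgLib.Geo.TensorPow
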