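/-
The pure tensors of nilpotents joined by a long root element of a fixed factor are closed under
anticommutators, and so under a combination of their kinds.
-/
import Cfsg.Agent.Geo.TensorPow.Sp.Chain

set_option autoImplicit false
set_option linter.unusedSectionVars false

namespace CfsgLib.Geo.TensorPow

open Matrix CfsgLib.Aschbacher
open scoped MatrixGroups

variable {F : Type*} [Field F] {t r : ℕ} [NeZero r]

/-- The first projection of the first hyperbolic plane. -/
def p1 : Matrix (Fin (r + r)) (Fin (r + r)) F := bm (Matrix.single 0 0 1) 0 0 0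

/-- The second projection of the first hyperbolic plane. -/
def p2 : Matrix (Fin (r + r)) (Fin (r + r)) F := bm 0 0 0 (Matrix.single 0 0 1)

/-- The root element opposite to `ee`. -/
def ff : Matrix (Fin (r + r)) (Fin (r + r)) F := bm 0 0 (Matrix.single 0 0 1) 0

/-- A partner of `yy`. -/
def yy' : Matrix (Fin (r + r)) (Fin (r + r)) F := bm (Matrix.single 0 o1 1) 0 0 (Matrix.single o1 0 1)

/-- The exchange of the two coordinates of a hyperbolic plane. -/
def ww (o : Fin r) : Matrix (Fin (r + r)) (Fin (r + r)) F :=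
  bm (1 - Matrix.single o o 1) (-Matrix.single o o 1) (Matrix.single o o 1) (1 - Matrix.single o o 1)

lemma single_idem (o : Fin r) : Matrix.single o o (1 : F) * Matrix.single o o 1 = Matrix.single o o 1 := by
  rw [Matrix.single_mul_single_same, one_mul]

lemma isSp_ww (o : Fin r) : IsSp (ww o : Matrix (Fin (r + r)) (Fin (r + r)) F) := by
  rw [IsSp, ww, jm, bm_transpose, bm_mul, bm_mul]
  simp [Matrix.transpose_single, sub_mul, mul_sub, single_idem]
  congr 1
  abel

lemma ww_mul_transpose (o : Fin r) : ww o * (ww o : Matrix (Fin (r + r)) (Fin (r + r)) F)ᵀ = 1 := by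
  rw [ww, bm_transpose, bm_mul, ← bm_one]
  simp [Matrix.transpose_single, sub_mul, mul_sub, single_idem]

lemma ww_ee : ww 0 * (ee : Matrix (Fin (r + r)) (Fin (r + r)) F) * (ww 0)ᵀ = -ff := by
  rw [ww, ee, ff, bm_transpose, bm_mul, bm_mul, bm_neg]
  simp [Matrix.transpose_single, sub_mul, mul_sub, single_idem]

lemma ww_yy (h : 2 ≤ r) : ww o1 * (yy : Matrix (Fin (r + r)) (Fin (r + r)) F) * (ww o1)ᵀ = -yy' := by
  have hne := o1_ne h
  rw [ww, yy, yy', bm_transpose, bm_mul, bm_mul, bm_neg]
  simp [Matrix.transpose_single, sub_mul, mul_sub, single_idem, Matrix.single_mul_single_of_ne _ _ _ _ hne,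
    Matrix.single_mul_single_of_ne _ _ _ _ hne.symm]

lemma ww_p1 : ww 0 * (p1 : Matrix (Fin (r + r)) (Fin (r + r)) F) * (ww 0)ᵀ = p2 := by
  rw [ww, p1, p2, bm_transpose, bm_mul, bm_mul]
  simp [Matrix.transpose_single, sub_mul, mul_sub, single_idem]

lemma ww_p2 : ww 0 * (p2 : Matrix (Fin (r + r)) (Fin (r + r)) F) * (ww 0)ᵀ = p1 := by
  rw [ww, p1, p2, bm_transpose, bm_mul, bm_mul]
  simp [Matrix.transpose_single, sub_mul, mul_sub, single_idem]

lemma ee_mul_ff : ee * ff = (p1 : Matrix (Fin (r + r)) (Fin (r + r)) F) := by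
  rw [ee, ff, p1, bm_mul]; simp

lemma ff_mul_ee : ff * ee = (p2 : Matrix (Fin (r + r)) (Fin (r + r)) F) := by
  rw [ee, ff, p2, bm_mul]; simp

lemma yy_mul_yy' (h : 2 ≤ r) : yy * yy' = (ee : Matrix (Fin (r + r)) (Fin (r + r)) F) := by
  rw [yy, yy', ee, bm_mul]
  simp [sub_mul, Matrix.single_mul_single_of_ne _ _ _ _ (o1_ne h)]

lemma yy'_mul_yy (h : 2 ≤ r) : yy' * yy = -(ee : Matrix (Fin (r + r)) (Fin (r + r)) F) := by
  rw [yy, yy', ee, bm_mul, bm_neg]
  simp [mul_sub, Matrix.single_mul_single_of_ne _ _ _ _ (o1_ne h).symm]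

/-- The kind of the combination of two kinds. -/
def mixK : Knd → Knd → Knd
  | Knd.I, k => k
  | k, Knd.I => k
  | Knd.Y, Knd.Y => Knd.E
  | _, _ => Knd.I

/-- The kinds with `E` on a set. -/
def KE (s : Finset (Fin t)) : Fin t → Knd := fun l => if l ∈ s then Knd.E else Knd.I

lemma slot_mul_slot_mul {i : Fin t} {A A' : Matrix (Fin (r + r)) (Fin (r + r)) F} {C C' : Mt t (r + r) F}
    (hC : Com i C) : slot i A * C * (slot i A' * C') = slot i (A * A') * (C * C') := by
  rw [mul_assoc, ← mul_assoc C, ← hC.slot_comm, mul_assoc, ← mul_assoc, slot_mul]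

namespace SpBad

variable {M : Subgroup (GL (Fin t → Fin (r + r)) F)}

/-- The kinds of the long root element of the factor `i`. -/
abbrev L1 (i : Fin t) : Fin t → Knd := Function.update (fun _ => Knd.I) i Knd.E

lemma UL_L1 (i : Fin t) : (UL (L1 i) : Mt t (r + r) F) = slot i ee := by
  rw [UL_update _ rfl, show (UL (fun _ : Fin t => Knd.I) : Mt t (r + r) F) = 1 from tens_one, one_mul, kmat]

/-- The coefficients giving members with the long root element of the factor `i`. -/
def TT (M : Subgroup (GL (Fin t → Fin (r + r)) F)) (i : Fin t) (C : Mt t (r + r) F) : Prop := Xi M (L1 i) C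

lemma L1_ne (i : Fin t) : L1 i i ≠ Knd.I := by simp [L1]

lemma TT.mem {i : Fin t} {C : Mt t (r + r) F} (h : TT M i C) : Mem M (1 + slot i ee * C) := by
  have := h.2; rwa [UL_L1] at this

lemma TT.com {i : Fin t} {C : Mt t (r + r) F} (h : TT M i C) : Com i C := h.1 i (L1_ne i)

lemma tt_mk {i : Fin t} {C : Mt t (r + r) F} (hc : Com i C) (h : Mem M (1 + slot i ee * C)) : TT M i C :=
  ⟨fun l hl => by
    rcases eq_or_ne l i with rfl | hli
    · exact hc
    · exact absurd (by simp [L1, Function.update_of_ne hli]) hl, by rwa [UL_L1]⟩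

lemma tt_one (hM : SpBad M) (i : Fin t) : TT M i 1 :=
  tt_mk (com_one i) (by rw [mul_one]; exact hM.slot_up_mem i (Matrix.transpose_single _ _ _))

lemma TT.sub (hM : SpBad M) (h2 : (2 : F) ≠ 0) {i : Fin t} {C D : Mt t (r + r) F} (hC : TT M i C)
    (hD : TT M i D) : TT M i (C - D) := by
  rw [sub_eq_add_neg, ← neg_one_smul F D]
  exact Xi.add (L1_ne i) hC (Xi.smul hM h2 (L1_ne i) hD (-1))

lemma tt_bcb (hM : SpBad M) {i : Fin t} {B B' C : Mt t (r + r) F} (hB : TT M i B) (hB' : TT M i B')
    (hBB : B * B' = 1) (hC : TT M i C) : TT M i (B * C * B) := by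
  have hB'B : B' * B = 1 := mul_eq_one_comm.1 hBB
  have hY : Mem M (1 + slot i (-ff) * B') := by
    have := hM.conj_slot hB'.mem i (isSp_ww 0) (ww_mul_transpose 0)
    rwa [← mul_assoc (slot i (ww 0)), mul_assoc _ B', ← hB'.com.slot_comm, ← mul_assoc, slot_mul, slot_mul,
      ww_ee] at this
  have hW : Mem M (slot i (ww (0 : Fin r))ᵀ : Mt t (r + r) F) :=
    hM.slot_mem i _ ((isSp_ww 0).inv (ww_mul_transpose 0))
  set D : Mt t (r + r) F → Mt t (r + r) F → Mt t (r + r) F :=
    fun b b' => slot i (1 - p1 - p2) * 1 - slot i p1 * b - slot i p2 * b' with hD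
  have hmul := fun {A A' : Matrix (Fin (r + r)) (Fin (r + r)) F} {c c' : Mt t (r + r) F} (hc : Com i c) =>
    slot_mul_slot_mul (A := A) (A' := A') (C' := c') hc
  have h1 : (1 + slot i ee * B) * (1 + slot i (-ff) * B') * (1 + slot i ee * B) * slot i (ww 0)ᵀ = D B B' := by
    have e1 : slot i ee * B * (slot i (-ff) * B') = -slot i p1 := by
      rw [hmul hB.com, hBB, mul_one, mul_neg, ee_mul_ff]; exact map_neg (slotL i) _
    have e2 : slot i (-ff) * B' * (slot i ee * B) = -slot i p2 := by
      rw [hmul hB'.com, hB'B, mul_one, neg_mul, ff_mul_ee]; exact map_neg (slotL i) _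
    have e3 : slot i ee * B * (slot i ee * B) = 0 := by
      rw [hmul hB.com, show ee * ee = (0 : Matrix (Fin (r + r)) (Fin (r + r)) F) from kmat_sq (k := Knd.E) (by decide),
        slot_zero, zero_mul]
    have e4 : -slot i p1 * (slot i ee * B) = -(slot i ee * B) := by
      rw [neg_mul, ← mul_assoc, slot_mul, show p1 * ee = (ee : Matrix (Fin (r + r)) (Fin (r + r)) F) by
        rw [p1, ee, bm_mul]; simp]
    have e5 : (1 + slot i ee * B) * (1 + slot i (-ff) * B') * (1 + slot i ee * B) =
        slot i (1 - p1 - p2) * 1 + slot i ee * B + slot i (-ff) * B' := by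
      calc _ = 1 + (slot i ee * B + slot i ee * B) + slot i (-ff) * B' + slot i ee * B * (slot i (-ff) * B') +
            slot i (-ff) * B' * (slot i ee * B) + slot i ee * B * (slot i ee * B) +
            slot i ee * B * (slot i (-ff) * B') * (slot i ee * B) := by noncomm_ring
        _ = _ := by rw [e1, e2, e3, e4, mul_one, slot_sub, slot_sub, slot_one]; abel
    have hs : ∀ (A : Matrix (Fin (r + r)) (Fin (r + r)) F) (c : Mt t (r + r) F), Com i c →
        slot i A * c * slot i (ww 0)ᵀ = slot i (A * (ww 0)ᵀ) * c := fun A c hc => by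
      rw [mul_assoc, ← hc.slot_comm, ← mul_assoc, slot_mul]
    rw [e5, add_mul, add_mul, hs _ _ (com_one i), hs _ _ hB.com, hs _ _ hB'.com, hD]
    have f1 : (1 - p1 - p2) * (ww 0)ᵀ = (1 - p1 - p2 : Matrix (Fin (r + r)) (Fin (r + r)) F) := by
      rw [← bm_one, p1, p2, ww, bm_transpose, sub_eq_add_neg, sub_eq_add_neg, bm_neg, bm_neg, bm_add, bm_add, bm_mul]
      simp [Matrix.transpose_single, mul_sub, mul_add, sub_mul, add_mul, single_idem]
    have f2 : ee * (ww 0)ᵀ = -(p1 : Matrix (Fin (r + r)) (Fin (r + r)) F) := by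
      rw [ee, p1, ww, bm_transpose, bm_neg, bm_mul]
      simp [Matrix.transpose_single, mul_sub, single_idem]
    have f3 : -ff * (ww 0)ᵀ = -(p2 : Matrix (Fin (r + r)) (Fin (r + r)) F) := by
      rw [ff, p2, ww, bm_transpose, bm_neg, bm_neg, bm_mul]
      simp [Matrix.transpose_single, mul_sub, single_idem]
    rw [f1, f2, f3, show slot i (-p1) = -(slot i p1 : Mt t (r + r) F) from map_neg (slotL i) _,
      show slot i (-p2) = -(slot i p2 : Mt t (r + r) F) from map_neg (slotL i) _]
    noncomm_ring
  have hmem : Mem M (D B B') := h1 ▸ (((hB.mem).mul hY).mul hB.mem).mul hW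
  have hP : ∀ {A : Matrix (Fin (r + r)) (Fin (r + r)) F}, slot i A * (1 : Mt t (r + r) F) = slot i A := mul_one _
  have q11 : p1 * p1 = (p1 : Matrix (Fin (r + r)) (Fin (r + r)) F) := by rw [p1, bm_mul]; simp
  have q22 : p2 * p2 = (p2 : Matrix (Fin (r + r)) (Fin (r + r)) F) := by rw [p2, bm_mul]; simp
  have q12 : p1 * p2 = (0 : Matrix (Fin (r + r)) (Fin (r + r)) F) := by rw [p1, p2, bm_mul]; simp [bm]
  have q21 : p2 * p1 = (0 : Matrix (Fin (r + r)) (Fin (r + r)) F) := by rw [p1, p2, bm_mul]; simp [bm]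
  have q00 : (1 - p1 - p2) * (1 - p1 - p2) = (1 - p1 - p2 : Matrix (Fin (r + r)) (Fin (r + r)) F) := by
    simp only [sub_mul, mul_sub, one_mul, mul_one, q11, q12, q21, q22]; abel
  have q01 : (1 - p1 - p2) * p1 = (0 : Matrix (Fin (r + r)) (Fin (r + r)) F) := by
    simp only [sub_mul, one_mul, q11, q21]; abel
  have q02 : (1 - p1 - p2) * p2 = (0 : Matrix (Fin (r + r)) (Fin (r + r)) F) := by
    simp only [sub_mul, one_mul, q12, q22]; abel
  have q10 : p1 * (1 - p1 - p2) = (0 : Matrix (Fin (r + r)) (Fin (r + r)) F) := by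
    simp only [mul_sub, mul_one, q11, q12]; abel
  have q20 : p2 * (1 - p1 - p2) = (0 : Matrix (Fin (r + r)) (Fin (r + r)) F) := by
    simp only [mul_sub, mul_one, q21, q22]; abel
  have hinv : D B B' * D B' B = 1 := by
    simp only [hD]
    generalize hR0 : (1 - p1 - p2 : Matrix (Fin (r + r)) (Fin (r + r)) F) = R0 at q00 q01 q02 q10 q20
    simp only [sub_mul, mul_sub, mul_one]
    have hl : ∀ (A A' : Matrix (Fin (r + r)) (Fin (r + r)) F) (c : Mt t (r + r) F),
        slot i A * (slot i A' * c) = slot i (A * A') * c := fun A A' c => by rw [← mul_assoc, slot_mul]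
    have hr' : ∀ {c : Mt t (r + r) F}, Com i c → ∀ A A' : Matrix (Fin (r + r)) (Fin (r + r)) F,
        slot i A * c * slot i A' = slot i (A * A') * c := fun {c} hc A A' => by
      rw [mul_assoc, ← hc.slot_comm, ← mul_assoc, slot_mul]
    simp only [hmul hB.com, hmul hB'.com, hl, hr' hB.com, hr' hB'.com, slot_mul, q00, q01, q02, q10, q20, q11, q12, q21,
      q22, hBB, hB'B, mul_one, slot_zero, zero_mul]
    rw [← hR0, slot_sub, slot_sub, slot_one]
    abel
  refine tt_mk ((hB.com.mul hC.com).mul hB.com) ?_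
  have := hmem.conj hinv hC.mem
  rwa [show D B B' * (slot i ee * C) * D B' B = slot i ee * (B * C * B) from ?_] at this
  have r1 : (1 - p1 - p2) * ee = (0 : Matrix (Fin (r + r)) (Fin (r + r)) F) := by
    rw [sub_mul, sub_mul, one_mul, p1, p2, ee, bm_mul, bm_mul]; simp [bm]
  have r2 : p1 * ee = (ee : Matrix (Fin (r + r)) (Fin (r + r)) F) := by rw [p1, ee, bm_mul]; simp
  have r3 : p2 * ee = (0 : Matrix (Fin (r + r)) (Fin (r + r)) F) := by rw [p2, ee, bm_mul]; simp [bm]
  have r4 : ee * (1 - p1 - p2) = (0 : Matrix (Fin (r + r)) (Fin (r + r)) F) := by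
    rw [mul_sub, mul_sub, mul_one, p1, p2, ee, bm_mul, bm_mul]; simp [bm]
  have r5 : ee * p1 = (0 : Matrix (Fin (r + r)) (Fin (r + r)) F) := by rw [p1, ee, bm_mul]; simp [bm]
  have r6 : ee * p2 = (ee : Matrix (Fin (r + r)) (Fin (r + r)) F) := by rw [p2, ee, bm_mul]; simp
  have hL : D B B' * (slot i ee * C) = -(slot i ee * (B * C)) := by
    simp only [hD, sub_mul]
    simp only [hmul (com_one i), hmul hB.com, hmul hB'.com, r1, r2, r3, slot_zero, zero_mul, one_mul]
    abel
  rw [hL, hD]
  simp only [neg_mul, mul_sub]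
  simp only [hmul (hB.com.mul hC.com), r4, r5, r6, slot_zero, zero_mul, mul_assoc]
  abel

lemma tt_anti (hM : SpBad M) (h2 : (2 : F) ≠ 0) {i : Fin t} {C D : Mt t (r + r) F} (hC : TT M i C)
    (hCC : C * C = 0) (hD : TT M i D) : TT M i (C * D + D * C) := by
  have h1 := Xi.add (L1_ne i) (hM.tt_one i) hC
  have h1' := TT.sub hM h2 (hM.tt_one i) hC
  have hinv := one_add_mul_one_sub hCC
  have hd := TT.sub hM h2 (hM.tt_bcb h1 h1' hinv hD) (hM.tt_bcb h1' h1 (mul_eq_one_comm.1 hinv) hD)
  rw [show (1 + C) * D * (1 + C) - (1 - C) * D * (1 - C) = (2 : F) • (C * D + D * C) by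
    rw [two_smul]; noncomm_ring] at hd
  have := Xi.smul hM h2 (L1_ne i) hd 2⁻¹
  rwa [smul_smul, inv_mul_cancel₀ h2, one_smul] at this

lemma tt_conj (hM : SpBad M) {i : Fin t} {C : Mt t (r + r) F} (hC : TT M i C) {l : Fin t} (hl : l ≠ i)
    {h k : Matrix (Fin (r + r)) (Fin (r + r)) F} (hh : IsSp h) (hk : h * k = 1) :
    TT M i (slot l h * C * slot l k) :=
  Xi.conj hM hC (by simp [L1, Function.update_of_ne hl]) hh hk

lemma slot_conj_tens (l : Fin t) (h k : Matrix (Fin (r + r)) (Fin (r + r)) F)
    (a : Fin t → Matrix (Fin (r + r)) (Fin (r + r)) F) :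
    slot l h * tens a * slot l k = (tens (Function.update a l (h * a l * k)) : Mt t (r + r) F) := by
  rw [slot_mul_tens, tens_mul_slot_eq, Function.update_idem, Function.update_self]

/-- Symmetrising the projections of the factors in a set and spreading them over all planes. -/
lemma tt_spread (hM : SpBad M) (h2 : (2 : F) ≠ 0) {i : Fin t} {R : Finset (Fin t)} (hi : i ∉ R)
    {b : Fin t → Matrix (Fin (r + r)) (Fin (r + r)) F}
    (h : TT M i (tens (R.piecewise (fun _ => p1) b) + tens (R.piecewise (fun _ => p2) b))) :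
    TT M i (tens (R.piecewise (fun _ => 1) b)) := by
  classical
  -- both projections in one plane
  have hsum : ∀ s ⊆ R, TT M i (tens (s.piecewise (fun _ => p1 + p2) (R.piecewise (fun _ => p1) b)) +
      tens (s.piecewise (fun _ => p1 + p2) (R.piecewise (fun _ => p2) b))) := by
    intro s
    induction s using Finset.induction_on with
    | empty => intro _; simpa using h
    | insert l s hl ih =>
      intro hsub
      have hlR : l ∈ R := hsub (Finset.mem_insert_self l s)
      have h0 := ih fun x hx => hsub (Finset.mem_insert_of_mem hx)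
      have h1 := hM.tt_conj h0 (l := l) (fun e => hi (e ▸ hlR)) (isSp_ww 0) (ww_mul_transpose 0)
      rw [mul_add, add_mul, slot_conj_tens, slot_conj_tens] at h1
      simp only [Finset.piecewise_eq_of_notMem _ _ _ hl, Finset.piecewise_eq_of_mem _ _ _ hlR, ww_p1, ww_p2] at h1
      have h3 : TT M i _ := Xi.add (L1_ne i) h0 h1
      rw [Finset.piecewise_insert, Finset.piecewise_insert, tens_update_add, tens_update_add]
      convert h3 using 1
      have e1 : ∀ a : Fin t → Matrix (Fin (r + r)) (Fin (r + r)) F, a l = p1 →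
          (tens (Function.update a l p1) : Mt t (r + r) F) = tens a := fun a ha => by
        rw [← ha, Function.update_eq_self]
      have e2 : ∀ a : Fin t → Matrix (Fin (r + r)) (Fin (r + r)) F, a l = p2 →
          (tens (Function.update a l p2) : Mt t (r + r) F) = tens a := fun a ha => by
        rw [← ha, Function.update_eq_self]
      rw [e1 _ (by simp [hl, hlR]), e2 (s.piecewise _ (R.piecewise (fun _ => p2) b)) (by simp [hl, hlR])]
      abel
  have hpi : TT M i (tens (R.piecewise (fun _ => p1 + p2) b)) := by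
    have h' := Xi.smul hM h2 (L1_ne i) (hsum R subset_rfl) (2⁻¹ : F)
    simp only [Finset.piecewise_idem_right, ← two_smul F, smul_smul, inv_mul_cancel₀ h2, one_smul] at h'
    exact h'
  -- the planes
  have hall : ∀ s ⊆ R, TT M i (tens (s.piecewise (fun _ => 1) (R.piecewise (fun _ => p1 + p2) b))) := by
    intro s
    induction s using Finset.induction_on with
    | empty => intro _; simpa using hpi
    | insert l s hl ih =>
      intro hsub
      have hlR : l ∈ R := hsub (Finset.mem_insert_self l s)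
      have h0 := ih fun x hx => hsub (Finset.mem_insert_of_mem hx)
      have hterm : ∀ a : Fin r, TT M i (tens (Function.update (s.piecewise (fun _ => 1) (R.piecewise (fun _ => p1 + p2) b))
          l (bm (Matrix.single a a 1) 0 0 (Matrix.single a a 1)))) := by
        intro a
        set P : Matrix (Fin r) (Fin r) F := (1 : Matrix (Fin r) (Fin r) F).submatrix (Equiv.swap 0 a) id with hP
        have hPP : Pᵀ * P = 1 := mul_eq_one_comm.1 (by
          rw [hP, Matrix.transpose_submatrix, Matrix.transpose_one,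
            ← Matrix.submatrix_mul _ _ _ id _ Function.bijective_id, mul_one, Matrix.submatrix_one_equiv])
        have hmove : P * Matrix.single 0 0 1 * Pᵀ = Matrix.single a a 1 := by
          refine Matrix.ext fun u v => ?_
          have key : ∀ w : Fin r, (0 = Equiv.swap (0 : Fin r) a w) ↔ a = w := fun w => by
            rw [eq_comm, Equiv.swap_apply_eq_iff, Equiv.swap_apply_left, eq_comm]
          simp [hP, Matrix.mul_apply, Matrix.one_apply, Matrix.single_apply, key, ite_and, eq_comm (b := (0 : Fin r))]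
          split_ifs <;> simp_all
        have h1 := hM.tt_conj h0 (l := l) (fun e => hi (e ▸ hlR)) (isSp_lev hPP) (lev_inv hPP)
        rw [slot_conj_tens] at h1
        convert h1 using 3
        rw [Finset.piecewise_eq_of_notMem _ _ _ hl, Finset.piecewise_eq_of_mem _ _ _ hlR, p1, p2, bm_add, bm_mul, bm_mul]
        simp [hmove]
      have hs : ∀ s' : Finset (Fin r), TT M i (tens (Function.update (s.piecewise (fun _ => 1) (R.piecewise (fun _ => p1 + p2) b))
          l (∑ a ∈ s', bm (Matrix.single a a 1) 0 0 (Matrix.single a a 1)))) := by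
        intro s'
        induction s' using Finset.induction_on with
        | empty =>
          rw [Finset.sum_empty, tens_eq_zero (l := l) (Function.update_self ..)]
          have h0' : TT M i _ := Xi.smul hM h2 (L1_ne i) (hM.tt_one i) 0
          simpa using h0'
        | insert a s' ha ih' =>
          rw [Finset.sum_insert ha, tens_update_add]
          exact Xi.add (L1_ne i) (hterm a) ih'
      have h1 := hs Finset.univ
      rwa [show (∑ a : Fin r, bm (Matrix.single a a 1) 0 0 (Matrix.single a a 1)) =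
          (1 : Matrix (Fin (r + r)) (Fin (r + r)) F) from ?_, ← Finset.piecewise_insert] at h1
      refine Matrix.ext fun u v => ?_
      obtain ⟨u, rfl⟩ := (hv r).surjective u
      obtain ⟨v, rfl⟩ := (hv r).surjective v
      rw [Matrix.sum_apply, Matrix.one_apply, if_congr ((hv r).injective.eq_iff (a := u) (b := v)) rfl rfl]
      simp only [bm_apply]
      rcases u with u | u <;> rcases v with v | v <;>
        simp [Matrix.single_apply, Matrix.one_apply, Finset.sum_ite_eq, ite_and]
  simpa only [Finset.piecewise_idem_right] using hall R subset_rfl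

/-- Combination of the kinds. -/
theorem tt_mix (hM : SpBad M) (h2 : (2 : F) ≠ 0) {i : Fin t} {L L' : Fin t → Knd} (hwf : Wf r L) {l₀ : Fin t}
    (hl₀ : L l₀ ≠ Knd.I)
    (hcompat : ∀ l, L l = Knd.I ∨ L' l = Knd.I ∨ L l = L' l)
    (heven : Even (Finset.univ.filter fun l => L l = Knd.Y ∧ L' l = Knd.Y).card)
    (hi : L i = Knd.I) (hi' : L' i = Knd.I) (hC : TT M i (UL L)) (hC' : TT M i (UL L')) :
    TT M i (UL fun l => mixK (L l) (L' l)) := by
  classical
  set a : Fin t → Matrix (Fin (r + r)) (Fin (r + r)) F := fun l =>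
    if L l = Knd.E ∧ L' l = Knd.E then ff else if L l = Knd.Y ∧ L' l = Knd.Y then yy' else kmat (L' l) with ha
  have hD : TT M i (tens a) := by
    suffices hs : ∀ s : Finset (Fin t), TT M i (tens (s.piecewise a fun l => kmat (L' l))) by
      simpa using hs Finset.univ
    intro s
    induction s using Finset.induction_on with
    | empty => simpa [UL] using hC'
    | insert l s hl ih =>
      rw [Finset.piecewise_insert]
      by_cases he : L l = Knd.E ∧ L' l = Knd.E
      · have hli : l ≠ i := fun e => by rw [e, hi] at he; exact absurd he.1 (by decide)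
        have h1 := Xi.smul hM h2 (L1_ne i) (hM.tt_conj ih hli (isSp_ww 0) (ww_mul_transpose 0)) (-1 : F)
        rw [slot_conj_tens, Finset.piecewise_eq_of_notMem _ _ _ hl, he.2, kmat, ww_ee, ← tens_update_smul,
          neg_one_smul, neg_neg] at h1
        rwa [show a l = ff by simp [ha, he]]
      by_cases hy : L l = Knd.Y ∧ L' l = Knd.Y
      · have hli : l ≠ i := fun e => by rw [e, hi] at hy; exact absurd hy.1 (by decide)
        have h1 := Xi.smul hM h2 (L1_ne i) (hM.tt_conj ih hli (isSp_ww o1) (ww_mul_transpose o1)) (-1 : F)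
        rw [slot_conj_tens, Finset.piecewise_eq_of_notMem _ _ _ hl, hy.2, kmat, ww_yy (hwf l hy.1),
          ← tens_update_smul, neg_one_smul, neg_neg] at h1
        rwa [show a l = yy' by simp [ha, hy]]
      · rwa [show a l = kmat (L' l) by simp [ha, he, hy], Function.update_eq_self_iff.2 (by simp [hl])]
  have hanti := hM.tt_anti h2 hC (UL_sq hl₀) hD
  set R := Finset.univ.filter fun l => L l = Knd.E ∧ L' l = Knd.E with hR
  set b : Fin t → Matrix (Fin (r + r)) (Fin (r + r)) F := fun l => kmat (mixK (L l) (L' l)) with hb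
  have e1 : UL L * tens a = (tens (R.piecewise (fun _ => p1) b) : Mt t (r + r) F) := by
    rw [UL, tens_mul]
    congr 1
    funext l
    rcases hcompat l with h | h | h
    · simp [ha, hb, hR, h, kmat, mixK]
    · cases hk : L l <;> simp [ha, hb, hR, h, hk, kmat, mixK]
    · cases hk : L l <;> simp [ha, hb, hR, ← h, hk, kmat, mixK, ee_mul_ff]
      exact yy_mul_yy' (hwf l hk)
  have e2 : tens a * UL L = (tens (R.piecewise (fun _ => p2) b) : Mt t (r + r) F) := by
    rw [UL, tens_mul]
    set σ : Fin t → F := fun l => if L l = Knd.Y ∧ L' l = Knd.Y then -1 else 1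
    rw [show (fun l => a l * kmat (L l)) = fun l => σ l • R.piecewise (fun _ => p2) b l from funext fun l => ?_,
      tens_smul, Finset.prod_ite, Finset.prod_const, Finset.prod_const, one_pow, mul_one, heven.neg_one_pow, one_smul]
    rcases hcompat l with h | h | h
    · simp [ha, hb, hR, σ, h, kmat, mixK]
    · cases hk : L l <;> simp [ha, hb, hR, σ, h, hk, kmat, mixK]
    · cases hk : L l <;> simp [ha, hb, hR, σ, ← h, hk, kmat, mixK, ff_mul_ee]
      exact yy'_mul_yy (hwf l hk)
  rw [e1, e2] at hanti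
  have h := hM.tt_spread h2 (R := R) (by simp [hR, hi]) hanti
  convert h using 1
  rw [UL]
  congr 1
  funext l
  by_cases hl : l ∈ R
  · rw [Finset.piecewise_eq_of_mem _ _ _ hl]
    simp only [hR, Finset.mem_filter, Finset.mem_univ, true_and] at hl
    simp [hl.1, hl.2, mixK, kmat]
  · rw [Finset.piecewise_eq_of_notMem _ _ _ hl]

end SpBad

end CfsgLib.Geo.TensorPow
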