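/-
The upper blocks giving members of a proper overgroup are scalar.
-/
import Cfsg.Agent.Geo.TensorPow.Sp.Mix
import Cfsg.Agent.Geo.TensorPow.Sp.Close

set_option autoImplicit false
set_option linter.unusedSectionVars false

namespace CfsgLib.Geo.TensorPow

open Matrix CfsgLib.Aschbacher
open scoped MatrixGroups

variable {F : Type*} [Field F] {t r : ℕ} [NeZero r]

lemma mixK_self (k : Knd) : mixK k k = if k = Knd.Y then Knd.E else Knd.I := by cases k <;> rfl

lemma mixK_I (k : Knd) : mixK k Knd.I = k := by cases k <;> rfl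

lemma KE_mix (s s' : Finset (Fin t)) :
    (fun l => mixK (KE s l) (KE s' l)) = KE ((s \ s') ∪ (s' \ s)) := funext fun l => by
  by_cases h : l ∈ s <;> by_cases h' : l ∈ s' <;> simp [KE, h, h', mixK]

lemma permMat_UL (σ : Equiv.Perm (Fin t)) (L : Fin t → Knd) :
    permMat (r + r) σ * (UL L : Mt t (r + r) F) * permMat (r + r) σ.symm = UL fun l => L (σ.symm l) := by
  rw [UL, permMat_mul_tens, mul_assoc, permMat_mul_inv, mul_one]; rfl

lemma single_eq_tens {m : ℕ} (x y : Fin t → Fin m) :
    (Matrix.single x y 1 : Mt t m F) = tens fun l => Matrix.single (x l) (y l) 1 := by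
  ext u v
  simp only [tens, Matrix.of_apply, Matrix.single_apply]
  by_cases h : x = u ∧ y = v
  · obtain ⟨rfl, rfl⟩ := h; simp
  · rw [if_neg h, eq_comm, Finset.prod_eq_zero_iff]
    obtain ⟨l, hl⟩ : ∃ l, ¬ (x l = u l ∧ y l = v l) := by
      by_contra hc
      push Not at hc
      exact h ⟨funext fun l => (hc l).1, funext fun l => (hc l).2⟩
    exact ⟨l, Finset.mem_univ _, if_neg hl⟩

lemma ee_eq_single :
    (ee : Matrix (Fin (r + r)) (Fin (r + r)) F) = Matrix.single (hv r (Sum.inl 0)) (hv r (Sum.inr 0)) 1 := by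
  refine Matrix.ext fun u v => ?_
  obtain ⟨u, rfl⟩ := (hv r).surjective u
  obtain ⟨v, rfl⟩ := (hv r).surjective v
  rw [ee, bm_apply, Matrix.single_apply]
  simp only [(hv r).injective.eq_iff]
  rcases u with u | u <;> rcases v with v | v <;> simp [Matrix.single_apply]

namespace SpBad

variable {M : Subgroup (GL (Fin t → Fin (r + r)) F)}

lemma tt_perm (hM : SpBad M) {i : Fin t} {L : Fin t → Knd} (hi : L i = Knd.I) (h : TT M i (UL L))
    {σ : Equiv.Perm (Fin t)} (hσ : σ i = i) : TT M i (UL fun l => L (σ.symm l)) := by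
  have hsi : σ.symm i = i := σ.symm_apply_eq.2 hσ.symm
  refine tt_mk (com_tens (by simp [hsi, hi, kmat])) ?_
  have := hM.conj_perm h.mem σ
  rw [← mul_assoc (permMat (r + r) σ), mul_assoc _ (UL L) (permMat (r + r) σ.symm), permMat_mul_slot, hσ,
    mul_assoc (slot i ee)] at this
  rwa [← mul_assoc (permMat (r + r) σ), permMat_UL] at this

lemma wf_KE (r : ℕ) (s : Finset (Fin t)) : Wf r (KE s) := fun l h => by
  simp only [KE] at h
  split_ifs at h

lemma tt_sdiff (hM : SpBad M) (h2 : (2 : F) ≠ 0) {i : Fin t} {s s' : Finset (Fin t)} (hs : i ∉ s) (hs' : i ∉ s')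
    (hne : s.Nonempty) (h : TT M i (UL (KE s))) (h' : TT M i (UL (KE s'))) :
    TT M i (UL (KE ((s \ s') ∪ (s' \ s)))) := by
  obtain ⟨l, hl⟩ := hne
  rw [← KE_mix]
  refine hM.tt_mix h2 (wf_KE r s) (l₀ := l) (by simp [KE, hl]) (fun x => ?_) ?_ (by simp [KE, hs])
    (by simp [KE, hs']) h h'
  · by_cases hx : x ∈ s <;> by_cases hx' : x ∈ s' <;> simp [KE, hx, hx']
  · rw [Finset.filter_false_of_mem fun x _ => ?_]
    · simp
    · by_cases hx : x ∈ s <;> simp [KE, hx]

/-- From an even set of long root elements to all factors. -/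
lemma tt_grow (hM : SpBad M) (h2 : (2 : F) ≠ 0) (ht : Odd t) {i : Fin t} {s : Finset (Fin t)} (hs : i ∉ s)
    (hne : s.Nonempty) (heven : Even s.card) (h : TT M i (UL (KE s))) :
    TT M i (UL (KE (Finset.univ.erase i))) := by
  classical
  have htc : (Finset.univ.erase i).card = t - 1 := by simp
  obtain ⟨k, hk⟩ := ht
  have hsub : ∀ s : Finset (Fin t), i ∉ s → s ⊆ Finset.univ.erase i := fun s hs x hx =>
    Finset.mem_erase.2 ⟨fun e => hs (e ▸ hx), Finset.mem_univ x⟩
  by_cases hfull : s = Finset.univ.erase i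
  · exact hfull ▸ h
  obtain ⟨b, hb, hbs⟩ := Finset.exists_of_ssubset ((hsub s hs).lt_of_ne hfull)
  have hbi := Finset.ne_of_mem_erase hb
  obtain ⟨a, ha⟩ := hne
  have hai : a ≠ i := fun e => hs (e ▸ ha)
  have hab : a ≠ b := fun e => hbs (e ▸ ha)
  have hswap : Equiv.swap a b i = i := Equiv.swap_apply_of_ne_of_ne hai.symm hbi.symm
  have hi' : i ∉ s.image (Equiv.swap a b) := fun h => by
    obtain ⟨x, hx, hxi⟩ := Finset.mem_image.1 h
    rw [← hswap] at hxi
    exact hs ((Equiv.swap a b).injective hxi ▸ hx)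
  have h' : TT M i (UL (KE (s.image (Equiv.swap a b)))) := by
    have := hM.tt_perm (by simp [KE, hs]) h hswap
    convert this using 3
    rename_i l
    simp only [KE]
    refine if_congr ?_ rfl rfl
    rw [Finset.mem_image]
    exact ⟨fun ⟨x, hx, e⟩ => by rwa [← e, Equiv.symm_apply_apply], fun hl => ⟨_, hl, Equiv.apply_symm_apply _ _⟩⟩
  have hpair := hM.tt_sdiff h2 hs hi' ⟨a, ha⟩ h h'
  rw [show (s \ s.image (Equiv.swap a b)) ∪ (s.image (Equiv.swap a b) \ s) = {a, b} from ?_] at hpair
  swap
  · ext x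
    have hm : x ∈ s.image (Equiv.swap a b) ↔ Equiv.swap a b x ∈ s := by
      rw [Finset.mem_image]
      exact ⟨fun ⟨y, hy, e⟩ => by rwa [← e, Equiv.swap_apply_self], fun hx => ⟨_, hx, Equiv.swap_apply_self _ _ _⟩⟩
    simp only [Finset.mem_union, Finset.mem_sdiff, hm, Finset.mem_insert, Finset.mem_singleton]
    rcases eq_or_ne x a with rfl | hxa
    · simp [ha, hbs]
    rcases eq_or_ne x b with rfl | hxb
    · simp [ha, hbs]
    · simp [Equiv.swap_apply_of_ne_of_ne hxa hxb, hxa, hxb]
  -- pairs and their unions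
  have hpairs : ∀ c d, c ≠ i → d ≠ i → c ≠ d → TT M i (UL (KE {c, d})) := by
    intro c d hc hd hcd
    set b' := Equiv.swap a c b
    have hb'i : b' ≠ i := fun e => hbi ((Equiv.swap a c).injective (e.trans (Equiv.swap_apply_of_ne_of_ne hai.symm hc.symm).symm))
    set σ := (Equiv.swap a c).trans (Equiv.swap b' d) with hσ
    have hσi : σ i = i := by
      rw [hσ, Equiv.trans_apply, Equiv.swap_apply_of_ne_of_ne hai.symm hc.symm,
        Equiv.swap_apply_of_ne_of_ne hb'i.symm hd.symm]
    have hσa : σ a = c := by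
      rw [hσ, Equiv.trans_apply, Equiv.swap_apply_left, Equiv.swap_apply_of_ne_of_ne _ hcd]
      intro e
      exact hab ((Equiv.swap a c).injective ((Equiv.swap_apply_left a c).trans e))
    have hσb : σ b = d := by rw [hσ, Equiv.trans_apply]; exact Equiv.swap_apply_left _ _
    have := hM.tt_perm (by simp [KE, hai.symm, hbi.symm]) hpair hσi
    convert this using 3
    rename_i l
    simp only [KE, Finset.mem_insert, Finset.mem_singleton]
    exact if_congr (by rw [← hσa, ← hσb, Equiv.symm_apply_eq, Equiv.symm_apply_eq]) rfl rfl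
  suffices hgrow : ∀ (n : ℕ) (s : Finset (Fin t)), t - s.card = n → i ∉ s → s.Nonempty → Even s.card →
      TT M i (UL (KE s)) → TT M i (UL (KE (Finset.univ.erase i))) from
    hgrow _ {a, b} rfl (by simp [hai.symm, hbi.symm]) (Finset.insert_nonempty _ _)
      (by rw [Finset.card_pair hab]; exact even_two) hpair
  intro n
  induction n using Nat.strong_induction_on with
  | _ n ih =>
    intro s hn hs hne heven h
    by_cases hfull : s = Finset.univ.erase i
    · exact hfull ▸ h
    have hlt := Finset.card_lt_card ((hsub s hs).lt_of_ne hfull)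
    have h2' : 2 ≤ ((Finset.univ.erase i) \ s).card := by
      rw [Finset.card_sdiff_of_subset (hsub s hs), htc]
      obtain ⟨j, hj⟩ := heven
      omega
    obtain ⟨c, hc, d, hd, hcd⟩ := Finset.one_lt_card.1 h2'
    obtain ⟨hci, hcs⟩ := Finset.mem_sdiff.1 hc
    obtain ⟨hdi, hds⟩ := Finset.mem_sdiff.1 hd
    have hci' := Finset.ne_of_mem_erase hci
    have hdi' := Finset.ne_of_mem_erase hdi
    have hcard : (s ∪ {c, d}).card = s.card + 2 := by
      rw [Finset.card_union_of_disjoint (by simp [hcs, hds]), Finset.card_pair hcd]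
    have hu := hM.tt_sdiff h2 (s := s) (s' := {c, d}) hs (by simp [hci'.symm, hdi'.symm]) hne h (hpairs c d hci' hdi' hcd)
    rw [show s \ {c, d} ∪ ({c, d} \ s) = s ∪ {c, d} from ?_] at hu
    swap
    · ext x
      simp only [Finset.mem_union, Finset.mem_sdiff, Finset.mem_insert, Finset.mem_singleton]
      by_cases hx : x ∈ s
      · simp only [hx, true_and, not_true, and_false, or_false, true_or, iff_true]
        exact fun h => h.elim (fun e => hcs (e ▸ hx)) fun e => hds (e ▸ hx)
      · simp [hx]
    refine ih _ ?_ _ rfl (by simp [hs, hci'.symm, hdi'.symm]) (Finset.Nonempty.inl hne)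
      (by rw [hcard]; exact heven.add even_two) hu
    rw [hcard]; omega

/-- Kinds with an even number of `Y`, at least one, give long root elements. -/
lemma tt_case_even (hM : SpBad M) (h2 : (2 : F) ≠ 0) (ht : Odd t) {i : Fin t} {K : Fin t → Knd} (hwf : Wf r K)
    (hi : K i = Knd.I) (hY : ∃ l, K l = Knd.Y) (heven : Even (Finset.univ.filter fun l => K l = Knd.Y).card)
    (h : TT M i (UL K)) : TT M i (UL (KE (Finset.univ.erase i))) := by
  obtain ⟨l, hl⟩ := hY
  have := hM.tt_mix h2 hwf (l₀ := l) (by rw [hl]; decide) (fun x => Or.inr (Or.inr rfl)) (by simpa using heven) hi hi h h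
  rw [show (fun l => mixK (K l) (K l)) = KE (Finset.univ.filter fun l => K l = Knd.Y) from funext fun l => by
    simp [mixK_self, KE]] at this
  exact hM.tt_grow h2 ht (by simp [hi]) ⟨l, by simp [hl]⟩ heven this

lemma count_kinds (K : Fin t → Knd) : (Finset.univ.filter fun l => K l = Knd.I).card +
    (Finset.univ.filter fun l => K l = Knd.E).card + (Finset.univ.filter fun l => K l = Knd.Y).card = t := by
  conv_rhs => rw [← Fintype.card_fin t, ← Finset.card_univ]
  rw [Finset.card_filter, Finset.card_filter, Finset.card_filter, ← Finset.sum_add_distrib, ← Finset.sum_add_distrib,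
    Finset.card_eq_sum_ones]
  refine Finset.sum_congr rfl fun l _ => ?_
  cases K l <;> simp

theorem no_xi (hM : SpBad M) (h2 : (2 : F) ≠ 0) (ht : Odd t) {L : Fin t → Knd} (hwf : Wf r L)
    (hsupp : ∃ l₀ l₁, l₀ ≠ l₁ ∧ L l₀ ≠ Knd.I ∧ L l₁ ≠ Knd.I)
    (hodd : Odd (Finset.univ.filter fun l => L l = Knd.E).card) (hX : Xi M L 1) : False := by
  classical
  obtain ⟨i, hi⟩ := Finset.card_pos.1 hodd.pos
  simp only [Finset.mem_filter, Finset.mem_univ, true_and] at hi
  set K := Function.update L i Knd.I with hK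
  have hKi : K i = Knd.I := by simp [hK]
  have hKof : ∀ l, l ≠ i → K l = L l := fun l hl => by simp [hK, Function.update_of_ne hl]
  have hLK : (UL L : Mt t (r + r) F) = slot i ee * UL K := by
    have hc : Com i (UL K : Mt t (r + r) F) := com_tens (by simp [hKi, kmat])
    rw [hc.slot_comm, ← show kmat Knd.E = (ee : Matrix (Fin (r + r)) (Fin (r + r)) F) from rfl, ← UL_update K hKi]
    congr 1
    funext l
    rcases eq_or_ne l i with rfl | hl
    · simp [hi]
    · rw [Function.update_of_ne hl, hKof l hl]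
  have hT : TT M i (UL K) := tt_mk (com_tens (by simp [hKi, kmat])) (by
    have := hX.2; rwa [mul_one, hLK] at this)
  have hwfK : Wf r K := fun l hl => by
    rcases eq_or_ne l i with rfl | hli
    · rw [hKi] at hl; exact absurd hl (by decide)
    · exact hwf l (by rwa [hKof l hli] at hl)
  have hevenE : Even (Finset.univ.filter fun l => K l = Knd.E).card := by
    have e : (Finset.univ.filter fun l => K l = Knd.E) = (Finset.univ.filter fun l => L l = Knd.E).erase i := by
      ext l
      rcases eq_or_ne l i with rfl | hl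
      · simp [hKi]
      · simp [hl, hKof l hl]
    rw [e, Finset.card_erase_of_mem (by simp [hi])]
    obtain ⟨k, hk⟩ := hodd
    exact ⟨k, by omega⟩
  obtain ⟨l, hli, hl⟩ : ∃ l, l ≠ i ∧ K l ≠ Knd.I := by
    obtain ⟨l₀, l₁, h01, h0, h1⟩ := hsupp
    rcases eq_or_ne l₀ i with rfl | h
    · exact ⟨l₁, h01.symm, by rw [hKof l₁ h01.symm]; exact h1⟩
    · exact ⟨l₀, h, by rw [hKof l₀ h]; exact h0⟩
  have hend : TT M i (UL (KE (Finset.univ.erase i))) := by
    rcases Nat.even_or_odd (Finset.univ.filter fun l => K l = Knd.Y).card with hY | hY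
    · by_cases hY0 : ∃ l, K l = Knd.Y
      · exact hM.tt_case_even h2 ht hwfK hKi hY0 hY hT
      push Not at hY0
      have e : K = KE (Finset.univ.filter fun l => K l = Knd.E) := funext fun x => by
        cases hx : K x <;> simp [KE, hx]
        exact absurd hx (hY0 x)
      have hlE : K l = Knd.E := by
        cases hx : K l
        · exact absurd hx hl
        · rfl
        · exact absurd hx (hY0 l)
      exact hM.tt_grow h2 ht (by simp [hKi]) ⟨l, by simp [hlE]⟩ hevenE (e ▸ hT)
    · obtain ⟨b, hbI, hbi⟩ : ∃ b, K b = Knd.I ∧ b ≠ i := by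
        by_contra hc
        push Not at hc
        have e : (Finset.univ.filter fun l => K l = Knd.I) = {i} := by
          ext x
          simp only [Finset.mem_filter, Finset.mem_univ, true_and, Finset.mem_singleton]
          exact ⟨hc x, fun e => e ▸ hKi⟩
        have hcnt := count_kinds K
        rw [e, Finset.card_singleton] at hcnt
        obtain ⟨u, hu⟩ := hY
        obtain ⟨v, hv⟩ := hevenE
        obtain ⟨w, hw⟩ := ht
        omega
      obtain ⟨a, ha⟩ := Finset.card_pos.1 hY.pos
      simp only [Finset.mem_filter, Finset.mem_univ, true_and] at ha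
      have hai : a ≠ i := fun e => by rw [e, hKi] at ha; exact absurd ha (by decide)
      have hab : a ≠ b := fun e => by rw [e, hbI] at ha; exact absurd ha (by decide)
      have hσi : Equiv.swap a b i = i := Equiv.swap_apply_of_ne_of_ne hai.symm hbi.symm
      have h' := hM.tt_perm hKi hT hσi
      rw [Equiv.symm_swap] at h'
      set K' : Fin t → Knd := fun l => K (Equiv.swap a b l) with hK'
      have hK'o : ∀ x, x ≠ a → x ≠ b → K' x = K x := fun x h1 h2 => by
        simp [hK', Equiv.swap_apply_of_ne_of_ne h1 h2]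
      have hK'a : K' a = Knd.I := by simp [hK', hbI]
      have hK'b : K' b = Knd.Y := by simp [hK', ha]
      have hcompat : ∀ x, K x = Knd.I ∨ K' x = Knd.I ∨ K x = K' x := fun x => by
        rcases eq_or_ne x a with rfl | hxa
        · exact Or.inr (Or.inl hK'a)
        rcases eq_or_ne x b with rfl | hxb
        · exact Or.inl hbI
        · exact Or.inr (Or.inr (hK'o x hxa hxb).symm)
      have hYY : (Finset.univ.filter fun x => K x = Knd.Y ∧ K' x = Knd.Y) =
          (Finset.univ.filter fun x => K x = Knd.Y).erase a := by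
        ext x
        simp only [Finset.mem_filter, Finset.mem_univ, true_and, Finset.mem_erase]
        rcases eq_or_ne x a with rfl | hxa
        · simp [hK'a]
        rcases eq_or_ne x b with rfl | hxb
        · simp [hbI]
        · simp [hK'o x hxa hxb, hxa]
      have hev : Even (Finset.univ.filter fun x => K x = Knd.Y ∧ K' x = Knd.Y).card := by
        rw [hYY, Finset.card_erase_of_mem (by simp [ha])]
        obtain ⟨k, hk⟩ := hY
        exact ⟨k, by omega⟩
      have hmix := hM.tt_mix h2 hwfK (l₀ := a) (by rw [ha]; decide) hcompat hev hKi (by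
        rw [hK'o i hai.symm hbi.symm]; exact hKi) hT h'
      set N : Fin t → Knd := fun x => mixK (K x) (K' x) with hN
      have hNY : (Finset.univ.filter fun x => N x = Knd.Y) = {a, b} := by
        ext x
        simp only [Finset.mem_filter, Finset.mem_univ, true_and, Finset.mem_insert, Finset.mem_singleton]
        rcases eq_or_ne x a with rfl | hxa
        · simp [hN, ha, hK'a, mixK_I]
        rcases eq_or_ne x b with rfl | hxb
        · simp [hN, hbI, hK'b, mixK]
        · cases hx : K x <;> simp [hN, hK'o x hxa hxb, hxa, hxb, hx, mixK]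
      exact hM.tt_case_even h2 ht (fun _ _ => hwfK a ha)
        (by simp [hN, hKi, hK'o i hai.symm hbi.symm, mixK]) ⟨a, by simp [hN, ha, hK'a, mixK_I]⟩
        (by rw [hNY, Finset.card_pair hab]; exact even_two) hmix
  refine hM.nfull (hM.fullAt_all ht h2 fun c => ?_)
  set x : Fin t → Fin (r + r) := fun _ => hv r (Sum.inl 0)
  set j : F := jt t r F x (oppT x)
  have hall : (slot i ee : Mt t (r + r) F) * UL (KE (Finset.univ.erase i)) = Matrix.single x (oppT x) 1 := by
    rw [single_eq_tens, UL, slot_mul_tens]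
    congr 1
    funext l
    rcases eq_or_ne l i with rfl | hl
    · simp [KE, kmat, ee_eq_single, x, oppT, opp]
    · simp [Function.update_of_ne hl, KE, hl, kmat, ee_eq_single, x, oppT, opp]
  have hm := (Xi.smul hM h2 (L1_ne i) hend (c * j))
  have hm' : TT M i ((c * j) • UL (KE (Finset.univ.erase i))) := hm
  have := hm'.mem
  rw [mul_smul_comm, hall] at this
  rwa [single_vecMul_jt, show vecMulVec (Pi.single x 1 : (Fin t → Fin (r + r)) → F) (Pi.single (oppT x) j) =
    j • Matrix.single x (oppT x) 1 from ?_, smul_smul]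
  ext u v
  simp [Matrix.vecMulVec_apply, Matrix.single_apply, Pi.single_apply, ite_and, eq_comm]
  split_ifs <;> simp_all

/-- The upper blocks giving members are scalar. -/
theorem up_scalar (hM : SpBad M) (h2 : (2 : F) ≠ 0) (ht : Odd t) {i : Fin t}
    {B : Matrix (Fin r) (Fin r) (Mt t (r + r) F)} (hB : ∀ a b, Com i (B a b)) (h : Mem M (1 + upR i B)) :
    ∃ s : Matrix (Fin r) (Fin r) F, B = em s := by
  by_contra hcon
  obtain ⟨a, b, hab⟩ : ∃ a b, ¬ ∃ c : F, B a b = c • 1 := by
    by_contra hc
    push Not at hc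
    choose s hs using hc
    exact hcon ⟨Matrix.of s, Matrix.ext fun a b => by rw [em_apply, Matrix.of_apply, hs a b]⟩
  obtain ⟨L, hwf, hsupp, hodd, hX⟩ := hM.xi_of_ups h2 (i := i) (B := B)
    ⟨fun a b => ⟨hB a b, fun l hl => absurd rfl hl⟩, by
      rwa [show (UL (fun _ : Fin t => Knd.I) : Mt t (r + r) F) = 1 from tens_one, one_mul]⟩ hab
  exact hM.no_xi h2 ht hwf hsupp hodd hX

end SpBad

end CfsgLib.Geo.TensorPow
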