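/-
A member mapping an upper block of a factor to one of the same factor maps the whole factor to itself.
-/
import Cfsg.Agent.Geo.TensorPow.Sp.End

set_option autoImplicit false
set_option linter.unusedSectionVars false

namespace CfsgLib.Geo.TensorPow

open Matrix CfsgLib.Aschbacher
open scoped MatrixGroups

variable {F : Type*} [Field F] {t r : ℕ}

lemma cmp_transpose {m : ℕ} (i : Fin t) (p q : Fin m) (X : Mt t m F) : cmp i p q Xᵀ = (cmp i q p X)ᵀ := by
  simp only [cmp, Matrix.transpose_sum, Matrix.transpose_mul]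
  refine Finset.sum_congr rfl fun s _ => ?_
  rw [show ((eu i p s : Mt t m F))ᵀ = eu i s p by rw [eu, slot_transpose, Matrix.transpose_single, eu],
    show ((eu i s q : Mt t m F))ᵀ = eu i q s by rw [eu, slot_transpose, Matrix.transpose_single, eu], mul_assoc]

variable [NeZero r]

/-- A symmetric set of generators: the subalgebra containing all symmetric matrices is everything. -/
lemma mat_induction (p : Matrix (Fin r) (Fin r) F → Prop) (hadd : ∀ A B, p A → p B → p (A + B))
    (hmul : ∀ A B, p A → p B → p (A * B)) (hsym : ∀ s, sᵀ = s → p s) (Z : Matrix (Fin r) (Fin r) F) : p Z := by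
  rw [Matrix.matrix_eq_sum_single Z]
  refine Finset.sum_induction _ p hadd (hsym 0 Matrix.transpose_zero) fun a _ => ?_
  refine Finset.sum_induction _ p hadd (hsym 0 Matrix.transpose_zero) fun b _ => ?_
  rcases eq_or_ne a b with rfl | hab
  · exact hsym _ (Matrix.transpose_single _ _ _)
  rw [show Matrix.single a b (Z a b) = Matrix.single a a (Z a b) * (Matrix.single a b 1 + Matrix.single b a 1) by
    rw [mul_add, Matrix.single_mul_single_same, Matrix.single_mul_single_of_ne _ _ _ _ hab, mul_one, add_zero]]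
  exact hmul _ _ (hsym _ (Matrix.transpose_single _ _ _)) (hsym _ (by
    rw [Matrix.transpose_add, Matrix.transpose_single, Matrix.transpose_single, add_comm]))

/-- A matrix commuting with the symmetric upper blocks and the diagonal blocks of a factor commutes with it. -/
lemma com_of_parabolic (h2 : (2 : F) ≠ 0) (hq : 2 ≤ r ∨ ∃ c : F, c ≠ 0 ∧ c * c ≠ 1) {i : Fin t} {Y : Mt t (r + r) F}
    (hu : ∀ s : Matrix (Fin r) (Fin r) F, sᵀ = s → slot i (bm 0 s 0 0) * Y = Y * slot i (bm 0 s 0 0))
    (hl : ∀ H H' : Matrix (Fin r) (Fin r) F, Hᵀ * H' = 1 → slot i (bm H 0 0 H') * Y = Y * slot i (bm H 0 0 H')) :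
    Com i Y := by
  set A := (rep i Y).toBlocks₁₁
  set B := (rep i Y).toBlocks₁₂
  set C := (rep i Y).toBlocks₂₁
  set D := (rep i Y).toBlocks₂₂
  have hY : rep i Y = Matrix.fromBlocks A B C D := (Matrix.fromBlocks_toBlocks _).symm
  have hU : ∀ s : Matrix (Fin r) (Fin r) F, sᵀ = s → em s * C = 0 ∧ em s * D = A * em s := by
    intro s hs
    have h := congrArg (rep i) (hu s hs)
    rw [map_mul, map_mul, rep_slot, hY, map_zero, Matrix.fromBlocks_multiply, Matrix.fromBlocks_multiply,
      Matrix.fromBlocks_inj] at h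
    simp only [zero_mul, mul_zero, zero_add, add_zero] at h
    exact ⟨h.1, h.2.1⟩
  have hC : C = 0 := by simpa using (hU 1 Matrix.transpose_one).1
  have hDA : D = A := by simpa using (hU 1 Matrix.transpose_one).2
  have hoff : ∀ a b, a ≠ b → A a b = 0 := fun a b hab => by
    have h := congrFun (congrFun ((hU (Matrix.single a a 1) (Matrix.transpose_single _ _ _)).2) a) b
    simpa [hDA, em_mul_apply, mul_em_apply, Matrix.single_apply, hab, Ne.symm hab] using h
  have hdiag : ∀ a b, A a a = A b b := fun a b => by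
    rcases eq_or_ne a b with rfl | hab
    · rfl
    have h := congrFun (congrFun ((hU (Matrix.single a b 1 + Matrix.single b a 1) (by
      rw [Matrix.transpose_add, Matrix.transpose_single, Matrix.transpose_single, add_comm])).2) a) b
    simpa [hDA, map_add, mul_add, add_mul, em_mul_apply, mul_em_apply, Matrix.single_apply, hab, Ne.symm hab]
      using h.symm
  have hB' : ∀ H H' : Matrix (Fin r) (Fin r) F, Hᵀ * H' = 1 → em H * B = B * em H' := by
    intro H H' hH
    have h := congrArg (rep i) (hl H H' hH)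
    rw [map_mul, map_mul, rep_slot, hY, map_zero, Matrix.fromBlocks_multiply, Matrix.fromBlocks_multiply,
      Matrix.fromBlocks_inj] at h
    simpa using h.2.1
  have hB : B = 0 := by
    refine Matrix.ext fun a b => ?_
    rcases hq with hr | ⟨c, hc, hcc⟩
    · rcases eq_or_ne a b with rfl | hab
      · obtain ⟨e, he⟩ : ∃ e : Fin r, e ≠ a := by
          haveI : Nontrivial (Fin r) := Fin.nontrivial_iff_two_le.2 hr
          exact exists_ne a
        have h := congrFun (congrFun (hB' (1 + Matrix.single e a 1) (1 - Matrix.single a e 1) (by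
          rw [Matrix.transpose_add, Matrix.transpose_one, Matrix.transpose_single, mul_sub, mul_one, add_mul, one_mul,
            Matrix.single_mul_single_of_ne _ _ _ _ he]
          abel)) e) a
        simpa [map_add, map_sub, mul_sub, add_mul, em_mul_apply, mul_em_apply, Matrix.single_apply, he, Ne.symm he]
          using h
      · set d : Fin r → F := fun k => if k = a then -1 else 1 with hd
        have h := congrFun (congrFun (hB' (Matrix.diagonal d) (Matrix.diagonal d) (by
          rw [Matrix.diagonal_transpose, Matrix.diagonal_mul_diagonal, ← Matrix.diagonal_one]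
          congr 1; funext k; by_cases hk : k = a <;> simp [hd, hk])) a) b
        simp [em_mul_apply, mul_em_apply, Matrix.diagonal_apply, hd, hab.symm] at h
        rwa [neg_eq_iff_add_eq_zero, ← two_smul F (B a b), smul_eq_zero_iff_right h2] at h
    · have h := congrFun (congrFun (hB' (c • 1) (c⁻¹ • 1) (by simp [smul_smul, hc])) a) b
      simp [em_mul_apply, mul_em_apply, Matrix.one_apply] at h
      have h' : (c - c⁻¹) • B a b = 0 := by rw [sub_smul, h, sub_self]
      refine (smul_eq_zero.1 h').resolve_left fun h0 => hcc ?_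
      conv_lhs => arg 2; rw [sub_eq_zero.1 h0]
      exact mul_inv_cancel₀ hc
  have hd0 : Com i (A 0 0) := com_rep i Y (Sum.inl 0) (Sum.inl 0)
  have hAd : A = Matrix.diagonal fun _ => A 0 0 := Matrix.ext fun a b => by
    rcases eq_or_ne a b with rfl | hab
    · rw [Matrix.diagonal_apply_eq]; exact hdiag a 0
    · rw [Matrix.diagonal_apply_ne _ hab]; exact hoff a b hab
  rwa [show Y = A 0 0 from rep_injective i (by
    rw [rep_com hd0, diagonal_eq_fromBlocks, ← hAd, hY, hB, hC, hDA])]

namespace SpBad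

variable {M : Subgroup (GL (Fin t → Fin (r + r)) F)}

/-- A member upper triangular in the blocks of a factor with scalar diagonal blocks acts on that factor. -/
lemma inSlot_of_tri (hM : SpBad M) (h2 : (2 : F) ≠ 0) (ht : Odd t) {i : Fin t} {W : Mt t (r + r) F} (hW : Mem M W)
    {P Q : Matrix (Fin r) (Fin r) F} {U : Matrix (Fin r) (Fin r) (Mt t (r + r) F)}
    (hrep : rep i W = Matrix.fromBlocks (em P) U 0 (em Q)) {P' : Matrix (Fin r) (Fin r) F} (hP : P * P' = 1) :
    InSlot i W := by
  set V : Matrix (Fin r) (Fin r) (Mt t (r + r) F) := em P' * U with hV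
  have hVc : ∀ a b, Com i (V a b) := fun a b => by
    rw [hV, em_mul_apply]
    exact com_sum _ fun k _ => Com.smul (by
      have e : U k b = rep i W (Sum.inl k) (Sum.inr b) := by rw [hrep]; rfl
      rw [e]; exact com_rep i W _ _) _
  set T : Mt t (r + r) F := slot i (bm P 0 0 Q) with hT
  have hWT : W = T * (1 + upR i V) := rep_injective i (by
    rw [hrep, map_mul, map_add, map_one, rep_upR hVc, hT, rep_slot, map_zero, ← Matrix.fromBlocks_one,
      Matrix.fromBlocks_add, Matrix.fromBlocks_multiply]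
    simp [hV, ← mul_assoc, ← map_mul, hP])
  obtain ⟨g, hg, hgv⟩ := hW
  have hiso := hM.iso g hg
  rw [hgv, hWT] at hiso
  set N := upR i V
  set K : Matrix (Fin (r + r)) (Fin (r + r)) F := (bm P 0 0 Q)ᵀ * jm r F * bm P 0 0 Q with hK
  set R0 : Mt t (r + r) F := tens (Function.update (fun _ => jm r F) i 1) with hR0
  have hR0c : Com i R0 := com_tens (Function.update_self ..)
  have hTT : Tᵀ * jt t r F * T = slot i K * R0 := by
    rw [hT, mul_jm_mul_update, hR0, slot_mul_tens, Function.update_idem, Function.update_self, mul_one]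
  have hjt : jt t r F = slot i (jm r F) * R0 := by
    rw [hR0, slot_mul_tens, Function.update_idem, Function.update_self, mul_one, Function.update_eq_self]; rfl
  have hmain : (1 + Nᵀ) * (slot i K * R0) * (1 + N) = slot i (jm r F) * R0 := by
    rw [← hTT, ← hjt]
    calc _ = (T * (1 + N))ᵀ * jt t r F * (T * (1 + N)) := by
          rw [Matrix.transpose_mul, Matrix.transpose_add, Matrix.transpose_one]; simp only [mul_assoc]
      _ = _ := hiso
  have hK' : K = bm 0 (-(Pᵀ * Q)) (Qᵀ * P) 0 := by
    rw [hK, jm, bm_transpose, bm_mul, bm_mul]; simp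
  have hNt : ∀ a v, rep i Nᵀ (Sum.inl a) v = 0 := fun a v => by
    rw [rep_apply, cmp_transpose, ← rep_apply, rep_upR hVc]
    rcases v with v | v <;> simp
  have h12 := congrArg (fun Z => Matrix.toBlocks₁₂ (rep i Z)) hmain
  have hN11 : (rep i Nᵀ).toBlocks₁₁ = 0 := Matrix.ext fun a b => hNt a (Sum.inl b)
  have hN12 : (rep i Nᵀ).toBlocks₁₂ = 0 := Matrix.ext fun a b => hNt a (Sum.inr b)
  simp only [map_mul, map_add, map_one] at h12
  rw [hK', jm, rep_slot, rep_slot, rep_com hR0c, rep_upR hVc, ← Matrix.fromBlocks_toBlocks (rep i Nᵀ), hN11, hN12,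
    ← Matrix.fromBlocks_one, Matrix.fromBlocks_add, Matrix.fromBlocks_add, diagonal_eq_fromBlocks] at h12
  simp only [Matrix.fromBlocks_multiply, Matrix.toBlocks_fromBlocks₁₂, map_zero, zero_mul, mul_zero, add_zero,
    zero_add, mul_one, one_mul] at h12
  have hPQ : Pᵀ * Q = 1 := neg_injective <| em_injective (F := F) (t := t) (m := r + r) <| Matrix.ext fun a b => by
    have hR0ne : R0 ≠ 0 := tens_ne_zero fun l => by
      rcases eq_or_ne l i with rfl | hl
      · rw [Function.update_self]; exact one_ne_zero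
      · rw [Function.update_of_ne hl]; exact jm_ne_zero (Nat.pos_of_ne_zero (NeZero.ne r))
    have h := congrFun (congrFun h12 a) b
    rw [Matrix.mul_diagonal, Matrix.mul_diagonal, em_apply, em_apply, smul_mul_assoc, one_mul, smul_mul_assoc,
      one_mul] at h
    rw [em_apply, em_apply, smul_left_injective F hR0ne h]
  have hsp := isSp_lev hPQ
  have hTm : Mem M T := hM.slot_mem i _ hsp
  have hNm : Mem M (1 + N) := by
    obtain ⟨k, hk⟩ : ∃ k, bm P 0 0 Q * k = 1 := ⟨_, hsp.mul_spInv⟩
    have h1 : T * slot i k = 1 := by rw [hT, slot_mul, hk, slot_one]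
    have h3 := (hTm.inv h1).mul (⟨g, hg, rfl⟩ : Mem M (g : Mt t (r + r) F))
    rwa [hgv, hWT, ← mul_assoc, mul_eq_one_comm.1 h1, one_mul] at h3
  obtain ⟨s, hs⟩ := hM.up_scalar h2 ht hVc hNm
  exact ⟨bm P 0 0 Q * (1 + bm 0 s 0 0), by rw [hWT, hT, ← slot_mul, slot_add, slot_one, ← upR_em, ← hs]⟩

/-- A member mapping an upper block of the factor to another one of it maps the factor to itself. -/
theorem pres_of_up (hM : SpBad M) (h2 : (2 : F) ≠ 0) (ht : Odd t) (hq : 2 ≤ r ∨ ∃ c : F, c ≠ 0 ∧ c * c ≠ 1)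
    {g : GL (Fin t → Fin (r + r)) F} (hg : g ∈ M) {i : Fin t} {s₁ s₁' s₂ s₂' : Matrix (Fin r) (Fin r) F}
    (hs₁ : s₁ᵀ = s₁) (h1 : s₁ * s₁' = 1) (hs₂ : s₂ᵀ = s₂) (h2' : s₂ * s₂' = 1)
    (hX : cj g (slot i (bm 0 s₁ 0 0)) = slot i (bm 0 s₂ 0 0)) : Pres g i i := by
  have h1r := mul_eq_one_comm.1 h1
  have h2r := mul_eq_one_comm.1 h2'
  have h1e : (em s₁ : Matrix _ _ (Mt t (r + r) F)) * em s₁' = 1 := by rw [← map_mul, h1, map_one]
  have h1er : (em s₁' : Matrix _ _ (Mt t (r + r) F)) * em s₁ = 1 := by rw [← map_mul, h1r, map_one]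
  have h2e : (em s₂ : Matrix _ _ (Mt t (r + r) F)) * em s₂' = 1 := by rw [← map_mul, h2', map_one]
  have h2er : (em s₂' : Matrix _ _ (Mt t (r + r) F)) * em s₂ = 1 := by rw [← map_mul, h2r, map_one]
  set G : Mt t (r + r) F := (g : Mt t (r + r) F)
  set G' : Mt t (r + r) F := ((g⁻¹ : GL (Fin t → Fin (r + r)) F) : Mt t (r + r) F)
  have hGG : rep i G * rep i G' = 1 := by rw [← map_mul, Units.mul_inv, map_one]
  have hGG' : rep i G' * rep i G = 1 := by rw [← map_mul, Units.inv_mul, map_one]
  have hmem : Mem M G := ⟨g, hg, rfl⟩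
  have hmem' : Mem M G' := ⟨g⁻¹, M.inv_mem hg, rfl⟩
  obtain ⟨A, B, C, D, hG⟩ : ∃ A B C D, rep i G = Matrix.fromBlocks A B C D :=
    ⟨_, _, _, _, (Matrix.fromBlocks_toBlocks _).symm⟩
  obtain ⟨A', B', C', D', hG'⟩ : ∃ A B C D, rep i G' = Matrix.fromBlocks A B C D :=
    ⟨_, _, _, _, (Matrix.fromBlocks_toBlocks _).symm⟩
  have hx : rep i G * rep i (slot i (bm 0 s₁ 0 0)) = rep i (slot i (bm 0 s₂ 0 0)) * rep i G := by
    rw [← map_mul, ← map_mul, ← hX, cj]; simp only [mul_assoc, G, Units.inv_mul, mul_one]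
  have hy : rep i G' * rep i (slot i (bm 0 s₂ 0 0)) = rep i (slot i (bm 0 s₁ 0 0)) * rep i G' := by
    rw [← map_mul, ← map_mul, ← hX, cj]; simp only [← mul_assoc, G', Units.inv_mul, one_mul]
  rw [hG, rep_slot, rep_slot, map_zero, Matrix.fromBlocks_multiply, Matrix.fromBlocks_multiply,
    Matrix.fromBlocks_inj] at hx
  rw [hG', rep_slot, rep_slot, map_zero, Matrix.fromBlocks_multiply, Matrix.fromBlocks_multiply,
    Matrix.fromBlocks_inj] at hy
  simp only [zero_mul, mul_zero, zero_add, add_zero] at hx hy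
  have hC : C = 0 := by
    calc C = em s₂' * em s₂ * C := by rw [h2er, one_mul]
      _ = 0 := by rw [mul_assoc, ← hx.1, mul_zero]
  have hC' : C' = 0 := by
    calc C' = em s₁' * em s₁ * C' := by rw [h1er, one_mul]
      _ = 0 := by rw [mul_assoc, ← hy.1, mul_zero]
  have hD' : D' = em s₁' * A' * em s₂ := by
    rw [mul_assoc, hy.2.1, ← mul_assoc, h1er, one_mul]
  have hD : D = em s₂' * A * em s₁ := by
    rw [mul_assoc, hx.2.1, ← mul_assoc, h2er, one_mul]
  rw [hG, hG', hC, hC', Matrix.fromBlocks_multiply, ← Matrix.fromBlocks_one, Matrix.fromBlocks_inj] at hGG hGG'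
  simp only [mul_zero, zero_mul, add_zero, zero_add] at hGG hGG'
  -- conjugated symmetric blocks
  have hup : ∀ s : Matrix (Fin r) (Fin r) F, sᵀ = s →
      InSlot i (cj g (slot i (bm 0 s 0 0))) ∧ ∃ W, A * em (s * s₁') * A' = em W := by
    intro s hs
    set V := A * em s * D' with hV
    have e : rep i (cj g (slot i (bm 0 s 0 0))) = Matrix.fromBlocks 0 V 0 0 := by
      rw [cj, map_mul, map_mul, show (g : Mt t (r + r) F) = G from rfl, hG, hG', hC, hC', rep_slot, map_zero,
        Matrix.fromBlocks_multiply, Matrix.fromBlocks_multiply]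
      simp [hV]
    have hVc : ∀ a b, Com i (V a b) := fun a b => by
      have := com_rep i (cj g (slot i (bm 0 s 0 0))) (Sum.inl a) (Sum.inr b)
      rwa [e] at this
    obtain ⟨S, hS⟩ := hM.up_scalar h2 ht hVc (by
      rw [← eq_upR e]; exact hmem.conj (Units.mul_inv g) (hM.slot_up_mem i hs))
    refine ⟨⟨bm 0 S 0 0, by rw [eq_upR e, hS, upR_em]⟩, S * s₂', ?_⟩
    rw [map_mul, map_mul, ← hS, hV, hD', mul_assoc _ (em s₁' * A' * em s₂) (em s₂'), mul_assoc _ (em s₂) (em s₂'),
      h2e, mul_one]
    simp only [mul_assoc]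
  -- every conjugated matrix of scalars is one
  have hall : ∀ Z : Matrix (Fin r) (Fin r) F, ∃ W, A * em Z * A' = em W := by
    set p : Matrix (Fin r) (Fin r) F → Prop := fun Z => ∃ W, A * em Z * A' = em W with hp
    have hmul : ∀ Z Z', p Z → p Z' → p (Z * Z') := by
      rintro Z Z' ⟨W, hW⟩ ⟨W', hW'⟩
      refine ⟨W * W', ?_⟩
      rw [map_mul, map_mul, ← hW, ← hW']
      calc _ = A * em Z * (A' * A) * em Z' * A' := by rw [hGG'.1, mul_one]; simp only [mul_assoc]
        _ = _ := by simp only [mul_assoc]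
    have hs1 : p s₁ := by
      have := (hup (s₁ * s₁) (by rw [Matrix.transpose_mul, hs₁])).2
      rwa [show s₁ * s₁ * s₁' = s₁ by rw [mul_assoc, h1, mul_one]] at this
    refine mat_induction p (fun Z Z' ⟨W, hW⟩ ⟨W', hW'⟩ => ⟨W + W', by rw [map_add, map_add, mul_add, add_mul, hW, hW']⟩)
      hmul fun s hs => ?_
    have := hmul _ _ (hup s hs).2 hs1
    rwa [show s * s₁' * s₁ = s by rw [mul_assoc, h1r, mul_one]] at this
  -- conjugated diagonal blocks
  have hlev : ∀ H H' : Matrix (Fin r) (Fin r) F, Hᵀ * H' = 1 → InSlot i (cj g (slot i (bm H 0 0 H'))) := by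
    intro H H' hH
    obtain ⟨P, hP⟩ := hall H
    obtain ⟨P', hP'⟩ := hall H'ᵀ
    obtain ⟨Q, hQ⟩ := hall (s₁ * H' * s₁')
    have hHH : H * H'ᵀ = 1 := mul_eq_one_comm.1 (by
      rw [← Matrix.transpose_one, ← hH, Matrix.transpose_mul, Matrix.transpose_transpose])
    have hPP : P * P' = 1 := em_injective (t := t) (m := r + r) (by
      rw [map_mul, map_one, ← hP, ← hP']
      calc _ = A * em H * (A' * A) * em H'ᵀ * A' := by simp only [mul_assoc]
        _ = _ := by rw [hGG'.1, mul_one, mul_assoc A, ← map_mul, hHH, map_one, mul_one, hGG.1])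
    have e : rep i (cj g (slot i (bm H 0 0 H'))) =
        Matrix.fromBlocks (em P) (A * em H * B' + B * em H' * D') 0 (em (s₂' * Q * s₂)) := by
      rw [cj, map_mul, map_mul, show (g : Mt t (r + r) F) = G from rfl, hG, hG', hC, hC', rep_slot, map_zero,
        Matrix.fromBlocks_multiply, Matrix.fromBlocks_multiply, Matrix.fromBlocks_inj]
      simp only [mul_zero, zero_mul, add_zero, zero_add]
      refine ⟨hP, ?_⟩
      rw [map_mul, map_mul, ← hQ, hD, hD', map_mul, map_mul]
      simp only [mul_assoc, and_self, and_true, true_and]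
    refine hM.inSlot_of_tri h2 ht ?_ e hPP
    exact (hmem.mul (hM.slot_mem i _ (isSp_lev hH))).mul hmem'
  -- the preimages of the other factors commute with the factor
  intro p q
  refine eq_slot_of_cmp fun u v => scalar_of_com fun l => ?_
  rcases eq_or_ne l i with rfl | hli
  · exact com_cmp _ _ _ _
  refine Com.cmp hli ?_ u v
  intro a b
  have hY : Com i (cj g⁻¹ (eu l a b)) := by
    refine com_of_parabolic h2 hq (fun s hs => ?_) fun H H' hH => ?_
    · obtain ⟨S, hS⟩ := (hup s hs).1
      refine cj_injective g ?_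
      rw [cj_mul, cj_mul, cj_cj_inv, hS, (com_eu hli.symm a b).slot_comm]
    · obtain ⟨S, hS⟩ := hlev H H' hH
      refine cj_injective g ?_
      rw [cj_mul, cj_mul, cj_cj_inv, hS, (com_eu hli.symm a b).slot_comm]
  conv_lhs => rw [← cj_cj_inv g (eu l a b), ← cj_mul]
  conv_rhs => rw [← cj_cj_inv g (eu l a b), ← cj_mul]
  exact congrArg (cj g) (hY p q).symm

end SpBad

end CfsgLib.Geo.TensorPow
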