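/-
A square-zero element of the symplectic algebra whose image is its kernel is conjugate to an upper block.
-/
import Cfsg.Agent.Geo.TensorPow.Sp.Group

set_option autoImplicit false
set_option linter.unusedSectionVars false

namespace CfsgLib.Geo.TensorPow

open Matrix CfsgLib.Aschbacher
open scoped MatrixGroups

variable {F : Type*} [Field F] {t r : ℕ}

/-- A square-zero element of the algebra of a factor with image equal to its kernel. -/
structure Root (A : Matrix (Fin (r + r)) (Fin (r + r)) F) : Prop where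
  sq : A * A = 0
  isp : IsSp (1 + A)
  htp : ∃ Z, A * Z + Z * A = 1

lemma root_up {s : Matrix (Fin r) (Fin r) F} (hs : sᵀ = s) {s' : Matrix (Fin r) (Fin r) F} (h : s * s' = 1) :
    Root (bm 0 s 0 0) := by
  refine ⟨by rw [bm_mul]; simp [bm], ?_, bm 0 0 s' 0, ?_⟩
  · rw [← bm_one, bm_add]; simpa using isSp_up hs
  · rw [bm_mul, bm_mul, bm_add, ← bm_one]; simp [h, mul_eq_one_comm.1 h]

lemma Root.conj {A h k : Matrix (Fin (r + r)) (Fin (r + r)) F} (hA : Root A) (hh : IsSp h) (hk : h * k = 1) :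
    Root (h * A * k) := by
  have hkh := mul_eq_one_comm.1 hk
  obtain ⟨Z, hZ⟩ := hA.htp
  refine ⟨?_, ?_, h * Z * k, ?_⟩
  · calc h * A * k * (h * A * k) = h * A * (k * h) * A * k := by simp only [mul_assoc]
      _ = 0 := by rw [hkh, mul_one, mul_assoc h, hA.sq, mul_zero, zero_mul]
  · have e : 1 + h * A * k = h * (1 + A) * k := by rw [mul_add, mul_one, add_mul, hk]
    rw [e]
    exact (hh.mul hA.isp).mul (hh.inv hk)
  · calc h * A * k * (h * Z * k) + h * Z * k * (h * A * k)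
        = h * A * (k * h) * Z * k + h * Z * (k * h) * A * k := by simp only [mul_assoc]
      _ = h * (A * Z + Z * A) * k := by rw [hkh, mul_one, mul_one]; noncomm_ring
      _ = 1 := by rw [hZ, mul_one, hk]

lemma Root.skew {A : Matrix (Fin (r + r)) (Fin (r + r)) F} (hA : Root A) : Aᵀ * jm r F = -(jm r F * A) := by
  have h := hA.isp
  rw [IsSp, Matrix.transpose_add, Matrix.transpose_one] at h
  calc Aᵀ * jm r F = (1 + Aᵀ) * jm r F * (1 + A) * (1 - A) - jm r F := by
        rw [mul_assoc ((1 + Aᵀ) * jm r F), one_add_mul_one_sub_sq hA.sq, mul_one]; noncomm_ring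
    _ = _ := by rw [h]; noncomm_ring
where one_add_mul_one_sub_sq {A : Matrix (Fin (r + r)) (Fin (r + r)) F} (h : A * A = 0) :
    (1 + A) * (1 - A) = 1 := by rw [mul_sub, mul_one, add_mul, one_mul, h]; abel

/-- A root element is conjugate to an invertible symmetric upper block. -/
theorem Root.exists_std (h2 : (2 : F) ≠ 0) {A : Matrix (Fin (r + r)) (Fin (r + r)) F} (hA : Root A) :
    ∃ (h k : Matrix (Fin (r + r)) (Fin (r + r)) F) (s s' : Matrix (Fin r) (Fin r) F),
      IsSp h ∧ h * k = 1 ∧ sᵀ = s ∧ s * s' = 1 ∧ h * A * k = bm 0 s 0 0 := by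
  classical
  set J := jm r F with hJ
  set L := LinearMap.range A.mulVecLin with hL
  have hker : LinearMap.ker A.mulVecLin = L := by
    refine le_antisymm (fun w hw => ?_) ?_
    · obtain ⟨Z, hZ⟩ := hA.htp
      rw [LinearMap.mem_ker, Matrix.mulVecLin_apply] at hw
      refine ⟨Z *ᵥ w, ?_⟩
      have := congrArg (· *ᵥ w) hZ
      simpa [Matrix.add_mulVec, ← Matrix.mulVec_mulVec, hw] using this
    · rintro _ ⟨y, rfl⟩
      simp [Matrix.mulVec_mulVec, hA.sq]
  have hdim : Module.finrank F L = r := by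
    have := A.mulVecLin.finrank_range_add_finrank_ker
    rw [hker, Module.finrank_fintype_fun_eq_card, Fintype.card_fin] at this
    rw [← hL] at this
    omega
  let b := (Module.finBasisOfFinrankEq F L hdim)
  choose R hR using fun a => (b a).2
  set Rm : Matrix (Fin (r + r)) (Fin r) F := Matrix.of fun x a => R a x with hRm
  set U0 := A * Rm with hU0
  have hU0v : ∀ c : Fin r → F, U0 *ᵥ c = ((∑ a, c a • b a : L) : Fin (r + r) → F) := fun c => by
    rw [Submodule.coe_sum]
    simp only [SetLike.val_smul, ← hR, ← map_smul, ← map_sum]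
    rw [hU0, ← Matrix.mulVec_mulVec]
    rw [Matrix.mulVecLin_apply]
    congr 1
    funext x
    simp [hRm, Matrix.mulVec, dotProduct, Finset.sum_apply, mul_comm]
  have hsk := hA.skew
  have hiso : U0ᵀ * J * A = 0 := by
    rw [hU0, Matrix.transpose_mul, Matrix.mul_assoc Rmᵀ, hsk, Matrix.mul_neg, Matrix.neg_mul, Matrix.mul_assoc Rmᵀ,
      Matrix.mul_assoc J, hA.sq, Matrix.mul_zero, Matrix.mul_zero, neg_zero]
  set M0 := U0ᵀ * J * Rm with hM0
  have hM0' : M0 = -(Rmᵀ * J * A * Rm) := by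
    rw [hM0, hU0, Matrix.transpose_mul, Matrix.mul_assoc Rmᵀ, hsk, Matrix.mul_neg, Matrix.neg_mul]
    simp only [hJ, Matrix.mul_assoc]
  have hM0t : M0ᵀ = M0 := by
    conv_lhs => rw [hM0]
    rw [Matrix.transpose_mul, Matrix.transpose_mul, Matrix.transpose_transpose, jm_transpose, Matrix.neg_mul,
      Matrix.mul_neg, hU0, hM0']
    simp only [hJ, Matrix.mul_assoc]
  have hunit : IsUnit M0 := by
    refine Matrix.mulVec_injective_iff_isUnit.1 fun x y hxy => ?_
    have hd : M0 *ᵥ (x - y) = 0 := by rw [Matrix.mulVec_sub, hxy, sub_self]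
    set z := U0 *ᵥ (x - y) with hz
    have hzR : Rmᵀ *ᵥ (J *ᵥ z) = 0 := by
      rw [hM0', Matrix.neg_mulVec, neg_eq_zero] at hd
      rw [hz, Matrix.mulVec_mulVec, Matrix.mulVec_mulVec, hU0]
      simpa [Matrix.mul_assoc] using hd
    have hzA : Aᵀ *ᵥ (J *ᵥ z) = 0 := by
      rw [hz, Matrix.mulVec_mulVec, Matrix.mulVec_mulVec, hJ, hsk, hU0, Matrix.neg_mul, Matrix.mul_assoc,
        ← Matrix.mul_assoc A, hA.sq, Matrix.zero_mul, Matrix.mul_zero, neg_zero, Matrix.zero_mulVec]
    have hJz : J *ᵥ z = 0 := by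
      refine dotProduct_eq_zero _ fun w => ?_
      obtain ⟨c, hc⟩ : ∃ c : Fin r → F, A *ᵥ w = U0 *ᵥ c :=
        ⟨fun a => b.repr ⟨A *ᵥ w, ⟨w, rfl⟩⟩ a, by rw [hU0v, b.sum_repr]⟩
      obtain ⟨y', hy'⟩ : w - Rm *ᵥ c ∈ L := by
        rw [← hker, LinearMap.mem_ker, Matrix.mulVecLin_apply, Matrix.mulVec_sub, Matrix.mulVec_mulVec, ← hU0, hc,
          sub_self]
      rw [Matrix.mulVecLin_apply] at hy'
      rw [show w = Rm *ᵥ c + A *ᵥ y' by rw [hy', add_sub_cancel], dotProduct_add, Matrix.dotProduct_mulVec,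
        Matrix.dotProduct_mulVec, ← Matrix.mulVec_transpose, ← Matrix.mulVec_transpose, hzR, hzA, zero_dotProduct,
        zero_dotProduct, add_zero]
    have hz0 : z = 0 := by
      have := congrArg (fun v => J *ᵥ v) hJz
      simpa [Matrix.mulVec_mulVec, hJ, jm_sq, Matrix.neg_mulVec] using this
    rw [hz, hU0v, Submodule.coe_eq_zero] at hz0
    exact sub_eq_zero.1 (funext (Fintype.linearIndependent_iff.1 b.linearIndependent _ hz0))
  obtain ⟨N, hN⟩ := hunit.exists_right_inv
  have hN' := mul_eq_one_comm.1 hN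
  have hNt : Nᵀ * M0 = 1 := by
    conv_lhs => rw [← hM0t]
    rw [← Matrix.transpose_mul, hN, Matrix.transpose_one]
  set U := -(U0 * N) with hU
  have hUR : Uᵀ * J * Rm = -1 := by
    rw [hU, Matrix.transpose_neg, Matrix.transpose_mul, Matrix.neg_mul, Matrix.neg_mul, Matrix.mul_assoc Nᵀ,
      Matrix.mul_assoc Nᵀ, ← hM0, hNt]
  have hRU : Rmᵀ * J * U = 1 := by
    have := congrArg Matrix.transpose hUR
    rw [Matrix.transpose_mul, Matrix.transpose_mul, Matrix.transpose_transpose, hJ, jm_transpose, Matrix.neg_mul,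
      Matrix.mul_neg, Matrix.transpose_neg, Matrix.transpose_one, neg_inj, ← Matrix.mul_assoc] at this
    exact this
  have hUA : Uᵀ * J * A = 0 := by
    rw [hU, Matrix.transpose_neg, Matrix.transpose_mul, Matrix.neg_mul, Matrix.neg_mul, Matrix.mul_assoc Nᵀ,
      Matrix.mul_assoc Nᵀ, hiso, Matrix.mul_zero, neg_zero]
  have hUU : Uᵀ * J * U = 0 := by
    conv_lhs => arg 2; rw [hU, hU0]
    rw [Matrix.mul_neg, ← Matrix.mul_assoc, ← Matrix.mul_assoc, hUA, Matrix.zero_mul, Matrix.zero_mul, neg_zero]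
  set K := Rmᵀ * J * Rm with hK
  have hKt : Kᵀ = -K := by
    rw [hK, Matrix.transpose_mul, Matrix.transpose_mul, Matrix.transpose_transpose, hJ, jm_transpose, Matrix.neg_mul,
      Matrix.mul_neg, Matrix.mul_assoc]
  set C : Matrix (Fin r) (Fin r) F := (-(2⁻¹ : F)) • K with hC
  set W := Rm + U * C with hW
  have hUW : Uᵀ * J * W = -1 := by
    rw [hW, Matrix.mul_add, hUR, ← Matrix.mul_assoc, hUU, Matrix.zero_mul, add_zero]
  have hWU : Wᵀ * J * U = 1 := by
    rw [hW, Matrix.transpose_add, Matrix.transpose_mul, Matrix.add_mul, Matrix.add_mul, hRU, Matrix.mul_assoc Cᵀ,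
      Matrix.mul_assoc Cᵀ, hUU, Matrix.mul_zero, add_zero]
  have hWW : Wᵀ * J * W = 0 := by
    conv_lhs => arg 2; rw [hW]
    rw [Matrix.mul_add, ← Matrix.mul_assoc, hWU, Matrix.one_mul, hW, Matrix.transpose_add, Matrix.transpose_mul,
      Matrix.add_mul, Matrix.add_mul, Matrix.mul_assoc Cᵀ, Matrix.mul_assoc Cᵀ, hUR, ← hK, hC, Matrix.transpose_smul,
      hKt, Matrix.mul_neg, Matrix.mul_one]
    have h3 : K + -(-(2⁻¹ : F) • -K) + -(2⁻¹ : F) • K = (1 - 2 * 2⁻¹ : F) • K := by
      rw [smul_neg, neg_neg, sub_smul, one_smul, two_mul, add_smul, neg_smul]; abel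
    rw [h3, mul_inv_cancel₀ h2, sub_self, zero_smul]
  set k : Matrix (Fin (r + r)) (Fin (r + r)) F := (Matrix.fromCols U W).submatrix id (hv r).symm with hk
  have hkk : kᵀ * jm r F * k = bm (Uᵀ * J * U) (Uᵀ * J * W) (Wᵀ * J * U) (Wᵀ * J * W) := by
    rw [hk, Matrix.transpose_submatrix, Matrix.transpose_fromCols, hJ]
    have e : ((Matrix.fromRows Uᵀ Wᵀ).submatrix (hv r).symm id * jm r F) = (Matrix.fromRows (Uᵀ * jm r F) (Wᵀ * jm r F)).submatrix (hv r).symm id := by
      rw [← Matrix.fromRows_mul]; rfl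
    rw [e, bm, ← Matrix.submatrix_mul _ _ _ id _ Function.bijective_id, Matrix.fromRows_mul_fromCols]
  have hksp : IsSp k := by
    rw [IsSp, hkk, hUU, hUW, hWU, hWW, jm]
  have hkinv := hksp.mul_spInv
  refine ⟨spInv k, k, -M0, -N, hksp.inv hkinv, hksp.spInv_mul, by rw [Matrix.transpose_neg, hM0t],
    by rw [neg_mul_neg, hN], ?_⟩
  have hAk : A * k = k * bm 0 (-M0) 0 0 := by
    rw [hk, bm]
    have e1 : A * (Matrix.fromCols U W).submatrix id (hv r).symm =
        (Matrix.fromCols (A * U) (A * W)).submatrix id (hv r).symm := by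
      rw [← Matrix.mul_fromCols]; rfl
    have hAU : A * U = 0 := by
      rw [hU, hU0, Matrix.mul_neg, ← Matrix.mul_assoc, ← Matrix.mul_assoc, hA.sq, Matrix.zero_mul, Matrix.zero_mul, neg_zero]
    rw [e1, Matrix.submatrix_mul_equiv, Matrix.fromCols_mul_fromBlocks, hAU]
    congr 2
    · simp
    · rw [hW, Matrix.mul_add, ← Matrix.mul_assoc, hAU, Matrix.zero_mul, add_zero, Matrix.mul_zero, add_zero, hU, ← hU0,
        Matrix.neg_mul, Matrix.mul_neg, neg_neg, Matrix.mul_assoc, hN', Matrix.mul_one]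
  rw [mul_assoc, hAk, ← mul_assoc, hksp.spInv_mul, one_mul]

end CfsgLib.Geo.TensorPow
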