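/-
A member sending a root element of a factor into the stabiliser lies in the stabiliser, given that the
members commuting with more factors do.
-/
import Cfsg.Agent.Geo.TensorPow.Sp.Pres
import Cfsg.Agent.Geo.TensorPow.Sp.Classify
import Cfsg.Agent.Geo.TensorPow.Sp.Std
import Cfsg.Agent.Geo.TensorPow.Semi

set_option autoImplicit false
set_option linter.unusedSectionVars false

namespace CfsgLib.Geo.TensorPow

open Matrix Cfsg Cfsg.Geo CfsgLib.Geo CfsgLib.Aschbacher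
open scoped MatrixGroups

variable {F : Type*} [Field F] {t r : ℕ} [NeZero r]

lemma cj_slot_of_val {u : GL (Fin t → Fin (r + r)) F} {j : Fin t} {h k : Matrix (Fin (r + r)) (Fin (r + r)) F}
    (hu : (u : Mt t (r + r) F) = slot j h) (hk : h * k = 1) (X : Matrix (Fin (r + r)) (Fin (r + r)) F) :
    cj u (slot j X) = slot j (h * X * k) := by
  have e : ((u⁻¹ : GL (Fin t → Fin (r + r)) F) : Mt t (r + r) F) = slot j k :=
    Units.inv_eq_of_mul_eq_one_right (by rw [hu, slot_mul, hk, slot_one])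
  rw [cj, e, hu, slot_mul, slot_mul]

lemma cj_permUnit (σ : Equiv.Perm (Fin t)) (i : Fin t) (X : Matrix (Fin (r + r)) (Fin (r + r)) F) :
    cj (permUnit (r + r) σ) (slot i X) = slot (σ i) X := by
  rw [cj, show ((permUnit (r + r) σ : GL (Fin t → Fin (r + r)) F) : Mt t (r + r) F) = permMat (r + r) σ from rfl,
    show (((permUnit (r + r) σ)⁻¹ : GL (Fin t → Fin (r + r)) F) : Mt t (r + r) F) = permMat (r + r) σ.symm from rfl,
    permMat_mul_slot, mul_assoc, permMat_mul_inv, mul_one]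

lemma Root.ne_zero {A : Matrix (Fin (r + r)) (Fin (r + r)) F} (hA : Root A) : A ≠ 0 := by
  rintro rfl
  obtain ⟨Z, hZ⟩ := hA.htp
  simp at hZ

lemma exists_htp_of_slot {j : Fin t} {A : Matrix (Fin (r + r)) (Fin (r + r)) F} {Z : Mt t (r + r) F}
    (h : slot j A * Z + Z * slot j A = 1) : ∃ Z₀, A * Z₀ + Z₀ * A = 1 := by
  refine ⟨Matrix.of fun p q => cmp j p q Z (fun _ => 0) (fun _ => 0), Matrix.ext fun p q => ?_⟩
  have h1 := congrFun (congrFun (congrArg (cmp j p q) h) (fun _ => 0)) (fun _ => 0)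
  rw [cmp_add, cmp_mul, cmp_mul, cmp_one] at h1
  simp only [cmp_slot, Matrix.add_apply, Matrix.sum_apply, smul_mul_assoc, mul_smul_comm, one_mul, mul_one,
    Matrix.smul_apply, smul_eq_mul] at h1
  simp only [Matrix.add_apply, Matrix.mul_apply, Matrix.of_apply, Matrix.one_apply] at h1 ⊢
  rcases eq_or_ne p q with rfl | hpq
  · simpa [mul_comm] using h1
  · simpa [hpq, mul_comm] using h1

namespace SpBad

variable {M : Subgroup (GL (Fin t → Fin (r + r)) F)}

theorem exists_pres [Finite F] (hM : SpBad M) (h2 : (2 : F) ≠ 0) (ht : Odd t)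
    (hq : 2 ≤ r ∨ ∃ c : F, c ≠ 0 ∧ c * c ≠ 1) {g : GL (Fin t → Fin (r + r)) F} (hg : g ∈ M) {S : Finset (Fin t)}
    (hS : ∀ s ∈ S, Com s (g : Mt t (r + r) F)) {i : Fin t} (hi : i ∉ S)
    {A : Matrix (Fin (r + r)) (Fin (r + r)) F} (hA : Root A) {y : GL (Fin t → Fin (r + r)) F}
    (hy : y ∈ tensorWreathStandard (r + r) t F) (hyv : (y : Mt t (r + r) F) = 1 + cj g (slot i A)) :
    ∃ j, j ∉ S ∧ Pres g i j := by
  classical
  haveI : NeZero (r + r) := ⟨by have := NeZero.ne r; omega⟩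
  set X := cj g (slot i A) with hXdef
  have hXX : X * X = 0 := by rw [hXdef, ← cj_mul, slot_mul, hA.sq, slot_zero, cj_zero]
  have hX0 : X ≠ 0 := fun h => hA.ne_zero (slot_injective i (cj_injective g (by rw [slot_zero, cj_zero]; exact h)))
  obtain ⟨j, A', hA'⟩ := classify_wreath_odd h2 (by have := NeZero.ne r; omega) hy
    (by rw [hyv, add_sub_cancel_left]; exact hXX) (by rw [hyv]; simpa using hX0)
  rw [hyv, add_sub_cancel_left] at hA'
  have hroot' : Root A' := by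
    refine ⟨slot_injective j (by rw [← slot_mul, ← hA', hXX, slot_zero]), ?_, ?_⟩
    · have hmem : Mem M (1 + slot j A') := by
        rw [← hA']
        have := hM.slot_mem i _ hA.isp
        rw [slot_add, slot_one] at this
        exact Mem.cj this hg
      obtain ⟨x, hx, hxv⟩ := hmem
      refine isSp_of_slot (i := j) (t := t) ?_
      rw [slot_add, slot_one, ← hxv]
      exact hM.iso x hx
    · obtain ⟨Z, hZ⟩ := hA.htp
      refine exists_htp_of_slot (j := j) (Z := cj g (slot i Z)) ?_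
      rw [← hA', hXdef, ← cj_mul, ← cj_mul, ← cj_add, slot_mul, slot_mul, ← slot_add, hZ, slot_one, cj_one]
  have hj : j ∉ S := fun hjS => by
    have hc : Com j (slot j A' : Mt t (r + r) F) :=
      hA' ▸ (hS j hjS).cj (com_slot (fun e : j = i => hi (e ▸ hjS)) A)
    obtain ⟨c, hc'⟩ := scalar_of_forall_comm (A := A') fun P => slot_injective j (by
      rw [← slot_mul, ← slot_mul, hc.slot_comm])
    refine hroot'.ne_zero ?_
    have h := hroot'.sq
    rw [hc', smul_mul_assoc, one_mul, smul_smul] at h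
    rw [hc', mul_self_eq_zero.1 ((smul_eq_zero.1 h).resolve_right one_ne_zero), zero_smul]
  obtain ⟨h₁, k₁, s₁, s₁', hh₁, hk₁, hs₁, hss₁, he₁⟩ := hA.exists_std h2
  obtain ⟨h₂, k₂, s₂, s₂', hh₂, hk₂, hs₂, hss₂, he₂⟩ := hroot'.exists_std h2
  obtain ⟨u₁, hu₁, hu₁v⟩ := hM.slot_mem i h₁ hh₁
  obtain ⟨u₂, hu₂, hu₂v⟩ := hM.slot_mem j h₂ hh₂
  obtain ⟨w, hw, hwv⟩ := hM.perm_mem (Equiv.swap i j)
  have hwu : w = permUnit (r + r) (Equiv.swap i j) := Units.ext hwv
  have hk₁' := mul_eq_one_comm.1 hk₁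
  have hinv : ((u₁⁻¹ : GL (Fin t → Fin (r + r)) F) : Mt t (r + r) F) = slot i k₁ :=
    Units.inv_eq_of_mul_eq_one_right (by rw [hu₁v, slot_mul, hk₁, slot_one])
  have hP : Pres (w * (u₂ * (g * u₁⁻¹))) i i := by
    refine hM.pres_of_up h2 ht hq (M.mul_mem hw (M.mul_mem hu₂ (M.mul_mem hg (M.inv_mem hu₁)))) hs₁ hss₁ hs₂ hss₂ ?_
    rw [← he₁, cj_comp, cj_comp, cj_comp, cj_slot_of_val hinv hk₁',
      show k₁ * (h₁ * A * k₁) * h₁ = A by rw [← mul_assoc, ← mul_assoc, hk₁', one_mul, mul_assoc, hk₁', mul_one],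
      ← hXdef, hA', cj_slot_of_val hu₂v hk₂, he₂, hwu, cj_permUnit, Equiv.swap_apply_right]
  refine ⟨j, hj, ?_⟩
  have p₁ : Pres u₁ i i := fun p q => ⟨_, cj_slot_of_val hu₁v hk₁ _⟩
  have p₂ : Pres u₂⁻¹ j j := fun p q => ⟨_, cj_slot_of_val (u := u₂⁻¹) (h := k₂) (k := h₂)
    (Units.inv_eq_of_mul_eq_one_right (by rw [hu₂v, slot_mul, hk₂, slot_one])) (mul_eq_one_comm.1 hk₂) _⟩
  have pw : Pres w i j := fun p q => ⟨_, by rw [hwu]; exact (cj_permUnit _ i _).trans (by rw [Equiv.swap_apply_left])⟩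
  have hwinv : w⁻¹ = w := by
    refine inv_eq_of_mul_eq_one_right (Units.ext ?_)
    rw [hwu, Units.val_mul, Units.val_one]
    show permMat (r + r) (Equiv.swap i j) * permMat (r + r) (Equiv.swap i j) = _
    conv_lhs => arg 2; rw [← Equiv.symm_swap]
    exact permMat_mul_inv _
  have := ((p₁.mul hP).mul pw).mul p₂
  rwa [show u₂⁻¹ * (w * (w * (u₂ * (g * u₁⁻¹)) * u₁)) = g by
    conv_lhs => arg 2; arg 1; rw [← hwinv]
    group] at this

theorem mem_of_root [Finite F] (hM : SpBad M) (h2 : (2 : F) ≠ 0) (ht : Odd t)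
    (hq : 2 ≤ r ∨ ∃ c : F, c ≠ 0 ∧ c * c ≠ 1) {S : Finset (Fin t)} (hA : Above M S)
    {g : GL (Fin t → Fin (r + r)) F} (hg : g ∈ M) (hS : ∀ s ∈ S, Com s (g : Mt t (r + r) F)) {i : Fin t} (hi : i ∉ S)
    {A : Matrix (Fin (r + r)) (Fin (r + r)) F} (hA' : Root A) {y : GL (Fin t → Fin (r + r)) F}
    (hy : y ∈ tensorWreathStandard (r + r) t F) (hyv : (y : Mt t (r + r) F) = 1 + cj g (slot i A)) :
    g ∈ tensorWreathStandard (r + r) t F := by
  classical
  haveI : NeZero (r + r) := ⟨by have := NeZero.ne r; omega⟩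
  obtain ⟨j, hj, hij⟩ := hM.exists_pres h2 ht hq hg hS hi hA' hy hyv
  refine mem_wreath_of_pres (by have := NeZero.ne r; omega) ht.pos fun l => ?_
  rcases eq_or_ne l i with rfl | hli
  · exact ⟨j, hij⟩
  by_cases hl : l ∈ S
  · exact ⟨l, (hS l hl).pres⟩
  have hu : Mem M (1 + slot l (bm 0 1 0 0)) := hM.slot_up_mem l Matrix.transpose_one
  obtain ⟨Y, hY, hYv⟩ := Mem.cj hu hg
  have hYw : Y ∈ tensorWreathStandard (r + r) t F := by
    refine hA (insert j S) (Finset.ssubset_insert hj) _ hY fun s hs => ?_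
    rw [hYv]
    refine (com_one s).add ?_
    rcases Finset.mem_insert.1 hs with rfl | hs
    · exact hij.com (com_slot hli.symm _)
    · exact (hS s hs).cj (com_slot (fun e : s = l => hl (e ▸ hs)) _)
  obtain ⟨k, -, hk⟩ := hM.exists_pres h2 ht hq hg hS hl
    (root_up (s := (1 : Matrix (Fin r) (Fin r) F)) Matrix.transpose_one (mul_one 1)) hYw hYv
  exact ⟨k, hk⟩

end SpBad

end CfsgLib.Geo.TensorPow
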