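/-
The members of an overgroup lie in the stabiliser: sums over the cosets and the Casimir element.
-/
import Cfsg.Agent.Geo.TensorPow.Sp.Semi
import Cfsg.Agent.Geo.TensorPow.Casimir

set_option autoImplicit false
set_option linter.unusedSectionVars false

namespace CfsgLib.Geo.TensorPow

open Matrix Cfsg Cfsg.Geo CfsgLib.Geo CfsgLib.Aschbacher
open scoped MatrixGroups

universe u

variable {F : Type u} [Field F] [Fintype F] {t r d e : ℕ} [NeZero r]

/-- A space of root elements of one factor, given by a basis. -/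
def spanHom (Jb : Fin e → Matrix (Fin (r + r)) (Fin (r + r)) F) :
    (Fin e → F) →+ Matrix (Fin (r + r)) (Fin (r + r)) F :=
  AddMonoidHom.mk' (fun u => ∑ p, u p • Jb p) fun u u' => by simp [add_smul, Finset.sum_add_distrib]

lemma spanHom_apply (Jb : Fin e → Matrix (Fin (r + r)) (Fin (r + r)) F) (u : Fin e → F) :
    spanHom Jb u = ∑ p, u p • Jb p := rfl

lemma sum_span [DecidableEq F] (i : Fin t) (ε : Fin d → Bool) (a : Fin d → Fin t → Fin (r + r))
    (Jb : Fin e → Matrix (Fin (r + r)) (Fin (r + r)) F) (hA : ∀ u u', spanHom Jb u * spanHom Jb u' = 0)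
    (K : Finset (Fin d))
    (hK : ∀ k, k ∉ K → ∀ p v, if ε k then Jb p v (a k i) = 0 else Jb p (a k i) v = 0)
    (h : K.card < (Fintype.card F - 1) * e) (X : (Fin d → Fin t → Fin (r + r)) → F) :
    ∑ u, act ε (slotU i (trU (spanHom Jb) hA u)) X a = 0 := by
  simp only [act_trU]
  rw [Finset.sum_comm]
  refine Finset.sum_eq_zero fun v _ => ?_
  rw [← Finset.sum_mul]
  set l : Fin d → Fin e → F := fun k p => if ε k then Jb p (v k) (a k i) else -Jb p (a k i) (v k) with hl
  set c : Fin d → F := fun k => if ε k then (1 : Matrix (Fin (r + r)) (Fin (r + r)) F) (v k) (a k i)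
    else (1 : Matrix (Fin (r + r)) (Fin (r + r)) F) (a k i) (v k) with hc
  rw [show ∑ u, (∏ k, if ε k then (1 : Matrix (Fin (r + r)) (Fin (r + r)) F) (v k) (a k i) + spanHom Jb u (v k) (a k i)
      else (1 : Matrix (Fin (r + r)) (Fin (r + r)) F) (a k i) (v k) - spanHom Jb u (a k i) (v k)) = 0 from ?_, zero_mul]
  rw [← sum_prod_affine c l ?_]
  · refine Finset.sum_congr rfl fun u _ => Finset.prod_congr rfl fun k _ => ?_
    cases hε : ε k <;> simp [hl, hc, hε, spanHom_apply, Matrix.sum_apply, mul_comm, sub_eq_add_neg]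
  · rw [Fintype.card_fin]
    refine lt_of_le_of_lt (Finset.card_le_card fun k hk => ?_) h
    rw [Finset.mem_filter] at hk
    by_contra hn
    refine hk.2 (funext fun p => ?_)
    have := hK k hn p (v k)
    cases hε : ε k <;> simp [hε] at this <;> simp [hl, hε, this]

lemma isSp_low {s : Matrix (Fin r) (Fin r) F} (h : sᵀ = s) : IsSp (bm 1 0 s 1) := by
  rw [IsSp, jm, bm_transpose, bm_mul, bm_mul]
  simp [h]

lemma root_low {s s' : Matrix (Fin r) (Fin r) F} (hs : sᵀ = s) (h : s * s' = 1) : Root (bm 0 0 s 0) := by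
  refine ⟨by rw [bm_mul]; simp [bm], ?_, bm 0 s' 0 0, ?_⟩
  · rw [← bm_one, bm_add]; simpa using isSp_low hs
  · rw [bm_mul, bm_mul, bm_add, ← bm_one]; simp [h, mul_eq_one_comm.1 h]

/-- Invertible symmetric matrices making up a space of dimension `e`. -/
def Pencil (s : Fin e → Matrix (Fin r) (Fin r) F) : Prop :=
  (∀ p, (s p)ᵀ = s p) ∧ ∀ u : Fin e → F, u ≠ 0 → ∃ s', (∑ p, u p • s p) * s' = 1

namespace SpBad

variable {M : Subgroup (GL (Fin t → Fin (r + r)) F)}

theorem exists_invariant (hM : SpBad M) (h2 : (2 : F) ≠ 0) (ht : Odd t)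
    (hq : 2 ≤ r ∨ ∃ c : F, c ≠ 0 ∧ c * c ≠ 1) {S : Finset (Fin t)} (hS : Above M S)
    (ε : Fin d → Bool) (C : (Fin d → Fin t → Fin (r + r)) → F)
    (hC : ∀ h ∈ stab M S, h ∈ tensorWreathStandard (r + r) t F → act ε h C = C) :
    ∃ T : (Fin d → Fin t → Fin (r + r)) → F, (∀ g ∈ stab M S, act ε g T = T) ∧
      ∀ (i : Fin t) (U : Type u) [AddCommGroup U] [Fintype U] (A : U →+ Matrix (Fin (r + r)) (Fin (r + r)) F)
        (hA : ∀ u u', A u * A u' = 0), i ∉ S → (∀ u, u ≠ 0 → Root (A u)) →
        ∀ φ : ((Fin d → Fin t → Fin (r + r)) → F) →+ F,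
          (∀ X, ∑ u, φ (act ε (slotU i (trU A hA u)) X) = 0) → φ T = φ C := by
  classical
  set Γ := stab M S with hΓ
  set H := (tensorWreathStandard (r + r) t F).subgroupOf Γ with hH
  letI : Fintype (↥Γ ⧸ H) := Fintype.ofFinite _
  let f : ↥Γ ⧸ H → (Fin d → Fin t → Fin (r + r)) → F := fun ω =>
    act ε ((ω.out : ↥Γ) : GL (Fin t → Fin (r + r)) F)⁻¹ C
  have hf : ∀ g : ↥Γ, f (g : ↥Γ ⧸ H) = act ε (g : GL (Fin t → Fin (r + r)) F)⁻¹ C := by
    intro g
    obtain ⟨h, hh⟩ := QuotientGroup.mk_out_eq_mul H g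
    show act ε _ C = _
    rw [hh, Subgroup.coe_mul, _root_.mul_inv_rev, act_mul, hC _ (inv_mem h.1.2) (inv_mem h.2)]
  have hsmul : ∀ (γ : ↥Γ) (ω : ↥Γ ⧸ H), f (γ • ω) = act ε (γ : GL (Fin t → Fin (r + r)) F)⁻¹ (f ω) := by
    intro γ ω
    induction ω using QuotientGroup.induction_on with
    | _ g =>
      rw [show γ • (g : ↥Γ ⧸ H) = ((γ * g : ↥Γ) : ↥Γ ⧸ H) from rfl, hf, hf, Subgroup.coe_mul,
        _root_.mul_inv_rev, act_mul]
  refine ⟨∑ ω, f ω, fun g hg => ?_, fun i U _ _ A hA hi hrt φ ha => ?_⟩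
  · rw [act_sum]
    refine Fintype.sum_equiv (MulAction.toPerm (⟨g, hg⟩⁻¹ : ↥Γ)) _ _ fun ω => ?_
    rw [MulAction.toPerm_apply, hsmul, Subgroup.coe_inv, inv_inv]
  set base : ↥Γ ⧸ H := ((1 : ↥Γ) : ↥Γ ⧸ H) with hbase
  have hsp : ∀ u, IsSp (1 + A u) := fun u => by
    rcases eq_or_ne u 0 with rfl | hu
    · rw [map_zero, add_zero, IsSp, Matrix.transpose_one, one_mul, mul_one]
    · exact (hrt u hu).isp
  have hρ : ∀ u, slotU i (trU A hA u) ∈ Γ := fun u => by
    refine ⟨?_, fun s hs => com_slot (fun e : s = i => hi (e ▸ hs)) _⟩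
    obtain ⟨x, hx, hxv⟩ := hM.slot_mem i _ (hsp u)
    rwa [show slotU i (trU A hA u) = x from Units.ext hxv.symm]
  let op : U → ↥Γ ⧸ H → ↥Γ ⧸ H := fun u ω => (⟨_, hρ u⟩ : ↥Γ) • ω
  have hadd : ∀ u u' ω, op (u + u') ω = op u (op u' ω) := fun u u' ω => by
    show _ • ω = _ • _ • ω
    rw [← mul_smul]
    refine congrArg (· • ω) (Subtype.ext ?_)
    show slotU i _ = slotU i _ * slotU i _
    rw [trU_add, map_mul]
  have h0 : ∀ ω, op 0 ω = ω := fun ω => by
    show _ • ω = ω
    rw [show (⟨_, hρ 0⟩ : ↥Γ) = 1 from Subtype.ext (by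
      show slotU i (trU A hA 0) = 1
      rw [show trU A hA 0 = 1 from Units.ext (by rw [trU_val, map_zero, add_zero]; rfl), map_one]), one_smul]
  have hfix : ∀ u, op u base = base := fun u => by
    show _ • _ = _
    refine QuotientGroup.eq.2 ?_
    rw [hH, Subgroup.mem_subgroupOf]
    simp only [smul_eq_mul, mul_one, Subgroup.coe_inv]
    exact inv_mem (slotU_mem_wreath i _)
  have key : φ (∑ ω ∈ Finset.univ.erase base, f ω) = 0 := by
    rw [map_sum]
    refine sum_free_orbits op h0 hadd (fun ω => φ (f ω)) (fun ω => ?_) _ (fun u ω hω => ?_) fun u ω hω he => ?_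
    · rw [← ha (f ω)]
      refine Fintype.sum_equiv (Equiv.neg U) _ _ fun u => ?_
      show φ (f (_ • ω)) = _
      rw [hsmul, ← map_inv, show (trU A hA u)⁻¹ = trU A hA (Equiv.neg U u) from Units.ext (by
        rw [trU_inv_val, trU_val, Equiv.neg_apply])]
    · refine Finset.mem_erase.2 ⟨fun e => Finset.ne_of_mem_erase hω ?_, Finset.mem_univ _⟩
      rw [← h0 ω, ← neg_add_cancel u, hadd, e, hfix]
    · by_contra hu
      refine Finset.ne_of_mem_erase hω ?_
      induction ω using QuotientGroup.induction_on with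
      | _ g =>
        have hgH := QuotientGroup.eq.1 he.symm
        rw [Subgroup.mem_subgroupOf] at hgH
        simp only [smul_eq_mul, Subgroup.coe_mul, Subgroup.coe_inv] at hgH
        have hg' : (g : GL (Fin t → Fin (r + r)) F)⁻¹ ∈ tensorWreathStandard (r + r) t F := by
          refine hM.mem_of_root h2 ht hq hS (M.inv_mem g.2.1) (fun s hs => (g.2.2 s hs).inv) hi (hrt u hu) hgH ?_
          rw [Units.val_mul, Units.val_mul, slotU_val, trU_val, slot_add, slot_one, cj, inv_inv, add_mul, one_mul,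
            mul_add, Units.inv_mul, mul_assoc]
        refine QuotientGroup.eq.2 ?_
        rw [hH, Subgroup.mem_subgroupOf]
        simpa using hg'
  rw [← Finset.sum_erase_add _ _ (Finset.mem_univ base), map_add, key, zero_add, hbase, hf, Subgroup.coe_one,
    inv_one, act_one]

theorem mem_of_cas (hM : SpBad M) (h2 : (2 : F) ≠ 0) (ht : Odd t) (hq : 2 ≤ r ∨ ∃ c : F, c ≠ 0 ∧ c * c ≠ 1)
    {S : Finset (Fin t)} (hS : Above M S) {i : Fin t} (hi : i ∉ S) (hinv : ∀ g ∈ stab M S, cas S g = cas S 1)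
    {g : GL (Fin t → Fin (r + r)) F} (hg : g ∈ stab M S) : g ∈ tensorWreathStandard (r + r) t F := by
  classical
  haveI : NeZero (r + r) := ⟨by have := NeZero.ne r; omega⟩
  let p₀ : Fin r → Fin (r + r) := fun a => hv r (Sum.inl a)
  let q₀ : Fin r → Fin (r + r) := fun a => hv r (Sum.inr a)
  have hpq : ∀ a, p₀ a ≠ q₀ a := fun a h => by simpa using (hv r).injective h
  set K : Fin r → Fin t → Matrix (Fin (r + r)) (Fin (r + r)) F := fun a l => Matrix.of fun p q =>
    cj g (eu l q p) (Function.update 0 i (q₀ a)) (Function.update 0 i (p₀ a)) with hK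
  have hcj : ∀ a, cj g (∑ l ∈ Sᶜ, slot l (K a l)) = eu i (p₀ a) (q₀ a) := fun a => by
    ext x y
    have h1 := congrFun (hinv g hg) ![y, x, Function.update 0 i (p₀ a), Function.update 0 i (q₀ a)]
    rw [cas_one_update hi (hpq a)] at h1
    rw [← h1]
    simp only [cas, Matrix.cons_val_zero, Matrix.cons_val_one, Matrix.cons_val, slot_eq_sum, cj, Finset.mul_sum,
      Finset.sum_mul, Matrix.sum_apply, mul_smul_comm, smul_mul_assoc, Matrix.smul_apply, smul_eq_mul, hK,
      Matrix.of_apply]
    exact Finset.sum_congr rfl fun l _ => Finset.sum_congr rfl fun p _ => Finset.sum_congr rfl fun q _ => by ring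
  have hup : (slot i (bm 0 1 0 0) : Mt t (r + r) F) = ∑ a, eu i (p₀ a) (q₀ a) := by
    simp only [eu, ← slot_sum]
    congr 1
    refine Matrix.ext fun u v => ?_
    obtain ⟨u, rfl⟩ := (hv r).surjective u
    obtain ⟨v, rfl⟩ := (hv r).surjective v
    rw [bm_apply, Matrix.sum_apply]
    simp only [p₀, q₀, Matrix.single_apply, (hv r).injective.eq_iff]
    rcases u with u | u <;> rcases v with v | v <;> simp [Matrix.one_apply, ite_and]
  have hX : cj g⁻¹ (slot i (bm 0 1 0 0)) = ∑ l ∈ Sᶜ, slot l (∑ a, K a l) := by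
    rw [hup]
    refine cj_injective g ?_
    rw [cj_cj_inv]
    simp only [slot_sum]
    rw [Finset.sum_comm]
    simp only [← hcj, cj, Finset.mul_sum, Finset.sum_mul]
  have hroot := root_up (F := F) (s := (1 : Matrix (Fin r) (Fin r) F)) Matrix.transpose_one (mul_one 1)
  have hXX : cj g⁻¹ (slot i (bm 0 1 0 0)) * cj g⁻¹ (slot i (bm 0 1 0 0)) = 0 := by
    rw [← cj_mul, slot_mul, hroot.sq, slot_zero, cj_zero]
  obtain ⟨j, A, hA⟩ := classify_sum_odd h2 _ hX hXX fun h0 =>
    hroot.ne_zero (slot_injective i (cj_injective g⁻¹ (by rw [slot_zero, cj_zero]; exact h0)))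
  have hAA : A * A = 0 := slot_injective j (by rw [← slot_mul, ← hA, hXX, slot_zero])
  let v : GL (Fin (r + r)) F := ⟨1 + A, 1 - A, by rw [mul_sub, mul_one, add_mul, one_mul, hAA]; abel,
    by rw [sub_mul, one_mul, mul_add, mul_one, hAA]; abel⟩
  have hmem := mem_stab.1 (inv_mem hg)
  refine inv_mem_iff.1 (hM.mem_of_root h2 ht hq hS hmem.1 hmem.2 hi hroot (slotU_mem_wreath j v) ?_)
  rw [slotU_val, hA]
  show slot j (1 + A) = _
  rw [slot_add, slot_one]

set_option maxHeartbeats 1000000 in
/-- The members commuting with a set of factors lie in the stabiliser. -/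
theorem stab_le (hM : SpBad M) (h2 : (2 : F) ≠ 0) (ht : Odd t) (hq : 2 ≤ r ∨ ∃ c : F, c ≠ 0 ∧ c * c ≠ 1)
    {s : Fin e → Matrix (Fin r) (Fin r) F} (hs : Pencil s) (he : 2 < (Fintype.card F - 1) * e) :
    ∀ S : Finset (Fin t), stab M S ≤ tensorWreathStandard (r + r) t F := by
  classical
  haveI : NeZero (r + r) := ⟨by have := NeZero.ne r; omega⟩
  suffices h : ∀ n, ∀ S : Finset (Fin t), Sᶜ.card = n → stab M S ≤ tensorWreathStandard (r + r) t F from
    fun S => h _ S rfl
  intro n
  induction n using Nat.strong_induction_on with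
  | _ n ih =>
    intro S hn g hg
    have habove : Above M S := fun S' hS' x hx hxS =>
      ih S'ᶜ.card (hn ▸ Finset.card_lt_card (Finset.compl_ssubset_compl.2 hS')) S' rfl ⟨hx, hxS⟩
    by_cases hall : ∀ i, i ∈ S
    · obtain ⟨c, hc⟩ := scalar_of_com (X := (g : Mt t (r + r) F)) fun i => hg.2 i (hall i)
      have hc0 : c ≠ 0 := fun h0 => g.ne_zero (by rw [hc, h0, zero_smul])
      rw [show g = slotU ⟨0, ht.pos⟩ (Units.map (algebraMap F (Matrix (Fin (r + r)) (Fin (r + r)) F)).toMonoidHom
          (Units.mk0 c hc0)) from Units.ext (by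
        rw [slotU_val, hc]
        show _ = slot _ (algebraMap F (Matrix (Fin (r + r)) (Fin (r + r)) F) c)
        rw [Algebra.algebraMap_eq_smul_one, slot_smul, slot_one])]
      exact slotU_mem_wreath _ _
    push Not at hall
    obtain ⟨i, hi⟩ := hall
    have hCH : ∀ h ∈ stab M S, h ∈ tensorWreathStandard (r + r) t F →
        act ε4 h (cas S 1) = cas S (1 : GL (Fin t → Fin (r + r)) F) := fun h hh hN => by
      rw [act_cas, mul_one]
      exact cas_eq_of_mem (by have := NeZero.ne r; omega) (inv_mem hh) (inv_mem hN)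
    obtain ⟨T, hT, hTC⟩ := hM.exists_invariant h2 ht hq habove ε4 _ hCH
    have hzero : ∀ x : Matrix (Fin r) (Fin r) F, ∀ u v : Fin r ⊕ Fin r, Matrix.fromBlocks 0 x 0 0 u v ≠ 0 →
        u.isLeft = true ∧ v.isLeft = false := fun x u v h => by
      rcases u with u | u <;> rcases v with v | v <;> simp_all
    have hzero' : ∀ x : Matrix (Fin r) (Fin r) F, ∀ u v : Fin r ⊕ Fin r, Matrix.fromBlocks 0 0 x 0 u v ≠ 0 →
        u.isLeft = false ∧ v.isLeft = true := fun x u v h => by
      rcases u with u | u <;> rcases v with v | v <;> simp_all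
    have hTeq : T = cas S 1 := funext fun a => by
      set side : Fin 4 → Bool := fun k => ((hv r).symm (a k i)).isLeft
      set K := Finset.univ.filter fun k => ε4 k ≠ side k with hK
      set K' := Finset.univ.filter fun k => ε4 k = side k with hK'
      have hcard : K'.card + K.card = 4 := by
        rw [hK, hK']
        exact (Finset.card_filter_add_card_filter_not _).trans (by simp)
      have hup : ∀ u, spanHom (fun p => bm 0 (s p) 0 0) u = bm 0 (∑ p, u p • s p) 0 0 := fun u => by
        refine Matrix.ext fun x y => ?_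
        obtain ⟨x, rfl⟩ := (hv r).surjective x
        obtain ⟨y, rfl⟩ := (hv r).surjective y
        rw [spanHom_apply, bm_apply, Matrix.sum_apply]
        simp only [Matrix.smul_apply, bm_apply]
        rcases x with x | x <;> rcases y with y | y <;> simp [Matrix.sum_apply]
      have hlo : ∀ u, spanHom (fun p => bm 0 0 (s p) 0) u = bm 0 0 (∑ p, u p • s p) 0 := fun u => by
        refine Matrix.ext fun x y => ?_
        obtain ⟨x, rfl⟩ := (hv r).surjective x
        obtain ⟨y, rfl⟩ := (hv r).surjective y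
        rw [spanHom_apply, bm_apply, Matrix.sum_apply]
        simp only [Matrix.smul_apply, bm_apply]
        rcases x with x | x <;> rcases y with y | y <;> simp [Matrix.sum_apply]
      have hsym : ∀ u : Fin e → F, (∑ p, u p • s p)ᵀ = ∑ p, u p • s p := fun u => by
        simp [Matrix.transpose_sum, hs.1]
      rcases le_or_gt K.card 2 with h | h
      · refine hTC i (Fin e → F) (spanHom fun p => bm 0 (s p) 0 0) (fun u u' => by
          rw [hup, hup, bm_mul]; simp [bm]) hi (fun u hu => ?_) (Pi.evalAddMonoidHom _ a) fun X => ?_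
        · obtain ⟨s', hs'⟩ := hs.2 u hu
          rw [hup]; exact root_up (hsym u) hs'
        · refine sum_span i ε4 a _ _ K (fun k hk p v => ?_) (lt_of_le_of_lt h he) X
          simp only [hK, Finset.mem_filter, Finset.mem_univ, true_and, not_not] at hk
          split_ifs with hε
          · rw [bm, Matrix.submatrix_apply]
            by_contra hne
            have := (hzero _ _ _ hne).2
            simp [side, this, hε] at hk
          · rw [bm, Matrix.submatrix_apply]
            by_contra hne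
            have := (hzero _ _ _ hne).1
            simp [side, this, hε] at hk
      · refine hTC i (Fin e → F) (spanHom fun p => bm 0 0 (s p) 0) (fun u u' => by
          rw [hlo, hlo, bm_mul]; simp [bm]) hi (fun u hu => ?_) (Pi.evalAddMonoidHom _ a) fun X => ?_
        · obtain ⟨s', hs'⟩ := hs.2 u hu
          rw [hlo]; exact root_low (hsym u) hs'
        · refine sum_span i ε4 a _ _ K' (fun k hk p v => ?_) (lt_of_le_of_lt (by omega) he) X
          simp only [hK', Finset.mem_filter, Finset.mem_univ, true_and] at hk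
          split_ifs with hε
          · rw [bm, Matrix.submatrix_apply]
            by_contra hne
            have := (hzero' _ _ _ hne).2
            simp [side, this, hε] at hk
          · rw [bm, Matrix.submatrix_apply]
            by_contra hne
            have := (hzero' _ _ _ hne).1
            simp [side, this, hε] at hk
    refine hM.mem_of_cas h2 ht hq habove hi (fun x hx => ?_) hg
    rw [← hTeq]
    conv_rhs => rw [← hT _ (inv_mem hx)]
    rw [hTeq, act_cas, inv_inv, mul_one]

end SpBad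

end CfsgLib.Geo.TensorPow
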