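/-
The stabiliser of an odd tensor power of a symplectic space is maximal in the symplectic group.
-/
import Cfsg.Agent.Geo.TensorPow.Sp.Avg
import Cfsg.Agent.Geo.TensorLinearMaximal
import Cfsg.Agent.Geo.SympTv
import Cfsg.Agent.Geo.OrthTensorNonMax
import Cfsg.Agent.Forms.OfBilin

set_option autoImplicit false
set_option linter.unusedSectionVars false

namespace CfsgLib.Geo.TensorPow

open Matrix Cfsg Cfsg.Geo CfsgLib.Geo CfsgLib.Aschbacher
open scoped MatrixGroups

universe u

variable {F : Type u} [Field F] {r : ℕ}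

lemma two_ne_of_odd [Fintype F] (hodd : Odd (Fintype.card F)) : (2 : F) ≠ 0 := fun h => by
  haveI := CharTwo.of_one_ne_zero_of_two_eq_zero (one_ne_zero (α := F)) h
  have := FiniteField.even_card_of_char_two (F := F) (ringChar.eq F 2)
  obtain ⟨k, hk⟩ := hodd
  omega

lemma exists_mul_self_ne_one [Fintype F] (h5 : 5 ≤ Fintype.card F) : ∃ c : F, c ≠ 0 ∧ c * c ≠ 1 := by
  classical
  by_contra hcon
  push Not at hcon
  have : Fintype.card F ≤ ({0, 1, -1} : Finset F).card := by
    rw [← Finset.card_univ]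
    refine Finset.card_le_card fun x _ => ?_
    simp only [Finset.mem_insert, Finset.mem_singleton]
    rcases eq_or_ne x 0 with h | h
    · exact Or.inl h
    · exact Or.inr (mul_self_eq_one_iff.1 (hcon x h))
  have := this.trans Finset.card_le_three
  omega

lemma exists_pair_form [Fintype F] (h3 : Fintype.card F = 3) : ∀ r : ℕ, 2 ≤ r → ∃ J : Matrix (Fin r) (Fin r) F,
    Jᵀ = J ∧ ∀ a b : F, a ≠ 0 ∨ b ≠ 0 → IsUnit (a • (1 : Matrix (Fin r) (Fin r) F) + b • J).det := by
  classical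
  have hthree : (3 : F) = 0 := by have := FiniteField.cast_card_eq_zero F; rwa [h3, Nat.cast_ofNat] at this
  have hval : ∀ x : F, x = 0 ∨ x = 1 ∨ x = -1 := by
    intro x
    by_contra hx
    push Not at hx
    have h21 : (-1 : F) ≠ 1 := fun h => one_ne_zero (α := F) (by linear_combination hthree + h)
    have h01 : (0 : F) ≠ -1 := fun h => one_ne_zero (α := F) (by linear_combination h)
    have := Finset.card_le_univ ({x, 0, 1, -1} : Finset F)
    rw [Finset.card_insert_of_notMem (by simp [hx.1, hx.2.1, hx.2.2]),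
      Finset.card_insert_of_notMem (by simp [h01, (one_ne_zero (α := F)).symm]),
      Finset.card_pair h21.symm, h3] at this
    omega
  intro r
  induction r using Nat.strong_induction_on with
  | _ r ih =>
    intro hr
    rcases Nat.lt_or_ge r 4 with h4 | h4
    · obtain rfl | rfl : r = 2 ∨ r = 3 := by omega
      · refine ⟨!![0, 1; 1, 1], by ext i j; fin_cases i <;> fin_cases j <;> rfl, fun a b hab => ?_⟩
        rw [isUnit_iff_ne_zero, Matrix.det_fin_two]
        simp only [Matrix.add_apply, Matrix.smul_apply, Matrix.one_apply, smul_eq_mul, Matrix.of_apply,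
          Matrix.cons_val', Matrix.cons_val_zero, Matrix.cons_val_one, Matrix.empty_val', Matrix.cons_val_fin_one]
        intro h
        rcases hval a with rfl | rfl | rfl <;> rcases hval b with rfl | rfl | rfl <;> simp at h hab <;>
          exact one_ne_zero (α := F) (by linear_combination h) <;>
          exact one_ne_zero (α := F) (by linear_combination -h)
      · refine ⟨!![0, 1, 0; 1, 0, 1; 0, 1, 1], by ext i j; fin_cases i <;> fin_cases j <;> rfl, fun a b hab => ?_⟩
        rw [isUnit_iff_ne_zero, Matrix.det_fin_three]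
        simp only [Matrix.add_apply, Matrix.smul_apply, Matrix.one_apply, smul_eq_mul, Matrix.of_apply,
          Matrix.cons_val', Matrix.cons_val_zero, Matrix.cons_val_one, Matrix.cons_val, Matrix.empty_val',
          Matrix.cons_val_fin_one, Fin.reduceEq, if_true, if_false]
        intro h
        rcases hval a with rfl | rfl | rfl <;> rcases hval b with rfl | rfl | rfl <;> simp at h hab <;>
          first
            | exact one_ne_zero (α := F) (by linear_combination h)
            | exact one_ne_zero (α := F) (by linear_combination -h)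
            | exact one_ne_zero (α := F) (by linear_combination h + hthree)
            | exact one_ne_zero (α := F) (by linear_combination h - hthree)
            | exact one_ne_zero (α := F) (by linear_combination -h + hthree)
            | exact one_ne_zero (α := F) (by linear_combination -h - hthree)
    · obtain ⟨J₂, h₂t, h₂⟩ := ih 2 (by omega) le_rfl
      obtain ⟨k, rfl⟩ : ∃ k, r = 2 + k := ⟨r - 2, by omega⟩
      obtain ⟨J', h't, h'⟩ := ih k (by omega) (by omega)
      refine ⟨(Matrix.fromBlocks J₂ 0 0 J').submatrix finSumFinEquiv.symm finSumFinEquiv.symm, ?_, fun a b hab => ?_⟩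
      · rw [Matrix.transpose_submatrix, Matrix.fromBlocks_transpose, h₂t, h't]; simp
      · rw [show a • (1 : Matrix (Fin (2 + k)) (Fin (2 + k)) F) +
            b • (Matrix.fromBlocks J₂ 0 0 J').submatrix finSumFinEquiv.symm finSumFinEquiv.symm =
            (Matrix.fromBlocks (a • 1 + b • J₂) 0 0 (a • 1 + b • J')).submatrix finSumFinEquiv.symm finSumFinEquiv.symm
          from ?_, Matrix.det_submatrix_equiv_self, Matrix.det_fromBlocks_zero₂₁]
        · exact (h₂ a b hab).mul (h' a b hab)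
        · rw [← Matrix.submatrix_one_equiv finSumFinEquiv.symm, ← Matrix.fromBlocks_one]
          ext i j
          simp only [Matrix.add_apply, Matrix.smul_apply, Matrix.submatrix_apply]
          rcases finSumFinEquiv.symm i with x | x <;> rcases finSumFinEquiv.symm j with y | y <;> simp

lemma exists_pencil [Fintype F] (hodd : Odd (Fintype.card F)) (hr : 0 < r) (hex : ¬ (Fintype.card F = 3 ∧ r = 1)) :
    ∃ (e : ℕ) (s : Fin e → Matrix (Fin r) (Fin r) F), Pencil s ∧ 2 < (Fintype.card F - 1) * e ∧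
      (2 ≤ r ∨ ∃ c : F, c ≠ 0 ∧ c * c ≠ 1) := by
  obtain ⟨k, hk⟩ := hodd
  have h1 := Fintype.one_lt_card (α := F)
  by_cases h5 : 5 ≤ Fintype.card F
  · refine ⟨1, fun _ => 1, ⟨fun _ => Matrix.transpose_one, fun u hu => ⟨(u 0)⁻¹ • 1, ?_⟩⟩, by omega,
      Or.inr (exists_mul_self_ne_one h5)⟩
    have h0 : u 0 ≠ 0 := fun h => hu (funext fun p => by rw [Fin.eq_zero p, h]; rfl)
    simp [smul_smul, h0]
  · have h3 : Fintype.card F = 3 := by omega
    have hr2 : 2 ≤ r := by
      by_contra h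
      exact hex ⟨h3, by omega⟩
    obtain ⟨J, hJt, hJ⟩ := exists_pair_form h3 r hr2
    refine ⟨2, ![1, J], ⟨fun p => by fin_cases p <;> simp [hJt], fun u hu => ?_⟩, by omega, Or.inl hr2⟩
    have h := hJ (u 0) (u 1) (by
      by_contra h
      push Not at h
      exact hu (funext fun p => by fin_cases p <;> simp [h.1, h.2]))
    obtain ⟨v, hv⟩ := ((Matrix.isUnit_iff_isUnit_det _).2 h).exists_right_inv
    exact ⟨v, by simpa [Fin.sum_univ_two] using hv⟩

/-- A basis of a symplectic space with the standard Gram matrix. -/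
lemma exists_gram {k : ℕ} {f₁ : (Fin k → F) → (Fin k → F) → F} (hf : Cfsg.Geo.IsSymplecticForm f₁) :
    ∃ r : ℕ, ∃ h : k = r + r, ∃ Q : GL (Fin (r + r)) F,
      (Q : Matrix (Fin (r + r)) (Fin (r + r)) F)ᵀ * (h ▸ gramMatrix f₁) * (Q : Matrix (Fin (r + r)) (Fin (r + r)) F) =
        jm r F := by
  classical
  set B := CfsgLib.Geo.OS.bilOfIs hf.bilinear with hB
  have halt : B.IsAlt := fun x => hf.alternating x
  obtain ⟨m', k', b, h1, h2, h3, h4⟩ :=
    CfsgLib.Forms.exists_symplectic_basis k (Fin k → F) B halt (by simp)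
  obtain rfl : k' = 0 := by
    by_contra hk'
    set j : Fin k' := ⟨0, Nat.pos_of_ne_zero hk'⟩
    obtain ⟨-, x, hx⟩ := hf.nondegenerate (b (Sum.inr j)) (b.ne_zero _)
    exact hx (h4 j x)
  have hk : k = m' + m' := by
    have := Module.finrank_eq_card_basis b
    simpa using this
  subst hk
  refine ⟨m', rfl, ?_⟩
  set c : Fin (m' + m') → (Fin (m' + m') → F) := fun p => b (Sum.inl ((hv m').symm p).swap) with hc
  have hinj : Function.Injective fun p : Fin (m' + m') =>
      (Sum.inl ((hv m').symm p).swap : (Fin m' ⊕ Fin m') ⊕ Fin 0) := fun p q h => by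
    have h' := congrArg Sum.swap (Sum.inl_injective h)
    rw [Sum.swap_swap, Sum.swap_swap] at h'
    exact (hv m').symm.injective h'
  have hli : LinearIndependent F c := b.linearIndependent.comp _ hinj
  set Qm : Matrix (Fin (m' + m')) (Fin (m' + m')) F := Matrix.of fun x p => c p x with hQm
  have hu : IsUnit Qm := by
    rw [← Matrix.linearIndependent_cols_iff_isUnit]
    exact hli
  refine ⟨hu.unit, ?_⟩
  have hgram : ∀ x y : Fin (m' + m') → F, f₁ x y = x ⬝ᵥ (gramMatrix f₁ *ᵥ y) := fun x y => by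
    rw [CfsgLib.Geo.OS.bilinearForm_eq_sum hf.bilinear x y]
    simp only [dotProduct, Matrix.mulVec, gramMatrix, Finset.mul_sum]
    exact Finset.sum_congr rfl fun _ _ => Finset.sum_congr rfl fun _ _ => by ring
  rw [IsUnit.unit_spec]
  refine Matrix.ext fun p q => ?_
  have e : (Qmᵀ * gramMatrix f₁ * Qm) p q = B (c p) (c q) := by
    rw [hB, CfsgLib.Geo.OS.bilOfIs_apply, hgram, Matrix.mul_apply', Matrix.dotProduct_mulVec]
    rfl
  rw [e]
  obtain ⟨u, rfl⟩ := (hv m').surjective p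
  obtain ⟨v, rfl⟩ := (hv m').surjective q
  simp only [hc, Equiv.symm_apply_apply, jm, bm_apply]
  rcases u with u | u <;> rcases v with v | v <;> simp only [Sum.swap_inl, Sum.swap_inr, Matrix.fromBlocks_apply₁₁,
    Matrix.fromBlocks_apply₁₂, Matrix.fromBlocks_apply₂₁, Matrix.fromBlocks_apply₂₂, Matrix.zero_apply]
  · exact h3 u v
  · rw [← LinearMap.IsAlt.neg halt, h1 v u, Matrix.neg_apply, Matrix.one_apply]
    simp [eq_comm]
  · rw [h1 u v, Matrix.one_apply]
  · exact h2 u v

/-- The stabiliser of an odd tensor power of a symplectic space is maximal. -/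
theorem symp_tensorWreath_maximal [Fintype F] {m : ℕ} (hm : 1 ≤ m) (hodd : Odd (Fintype.card F)) {k t : ℕ}
    (ht : Odd t) (ht3 : 3 ≤ t) (hex : ¬ (Fintype.card F = 3 ∧ k = 2)) (e : (Fin m ⊕ Fin m) ≃ (Fin t → Fin k))
    (P : GL (Fin m ⊕ Fin m) F) (f₁ : (Fin k → F) → (Fin k → F) → F) (hf₁ : Cfsg.Geo.IsSymplecticForm f₁)
    (hT : Cfsg.Geo.IsTensorPowerFormStructure id (Cfsg.sympForm m F) f₁ e P) :
    IsMaximalIn (Cfsg.spGL m F) (tensorWreathSubgroup k t e P ⊓ Cfsg.spGL m F) := by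
  classical
  obtain ⟨r, rfl, Q, hQ⟩ := exists_gram hf₁
  have h2 := two_ne_of_odd hodd
  have hr : 0 < r := by
    by_contra h
    obtain rfl : r = 0 := by omega
    exact (e (Sum.inl ⟨0, hm⟩) ⟨0, by omega⟩).elim0
  haveI : NeZero r := ⟨hr.ne'⟩
  obtain ⟨d, s, hs, hd, hq⟩ := exists_pencil hodd hr (fun h => hex ⟨h.1, by omega⟩)
  obtain ⟨c, hc, hform⟩ := hT
  set TQ : GL (Fin t → Fin (r + r)) F := tensUnit fun _ => Q with hTQ
  have hTQm : TQ ∈ tensorWreathStandard (r + r) t F := by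
    have := tensUnit_mem (F := F) (fun _ : Fin t => Q) 1
    rwa [show permUnit (r + r) (1 : Equiv.Perm (Fin t)) = (1 : GL (Fin t → Fin (r + r)) F) from Units.ext (by
      show permMat (r + r) (1 : Equiv.Perm (Fin t)) = 1
      ext x y; simp [permMat, Matrix.one_apply, eq_comm]), mul_one] at this
  let ψ₀ := CfsgLib.Geo.Tensor.glTransport e P
  let ψ : GL (Fin t → Fin (r + r)) F ≃* GL (Fin m ⊕ Fin m) F := (MulAut.conj TQ).trans ψ₀
  let L₀ : ((Fin t → Fin (r + r)) → F) ≃ₗ[F] (Fin m ⊕ Fin m → F) :=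
    (LinearEquiv.funCongrLeft F F e).trans (CfsgLib.Geo.glEquiv P)
  have hL₀ : ∀ x, L₀ x = (P : Matrix (Fin m ⊕ Fin m) (Fin m ⊕ Fin m) F) *ᵥ (x ∘ e) :=
    fun x => CfsgLib.Geo.glEquiv_apply P (x ∘ e)
  let L : ((Fin t → Fin (r + r)) → F) ≃ₗ[F] (Fin m ⊕ Fin m → F) := (CfsgLib.Geo.glEquiv TQ).trans L₀
  have hL : ∀ x, L x = L₀ ((TQ : Mt t (r + r) F) *ᵥ x) := fun x => congrArg L₀ (CfsgLib.Geo.glEquiv_apply TQ x)
  have htr₀ : ∀ (g : GL (Fin t → Fin (r + r)) F) x, ((ψ₀ g : GL (Fin m ⊕ Fin m) F) : Matrix _ _ F) *ᵥ L₀ x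
      = L₀ ((g : Mt t (r + r) F) *ᵥ x) := by
    intro g x
    show (P * Cfsg.Geo.glReindex e.symm g * P⁻¹).val *ᵥ L₀ x = _
    rw [hL₀, hL₀, CfsgLib.Geo.mul_mulVec, CfsgLib.Geo.mul_mulVec, CfsgLib.Geo.inv_mulVec_mulVec]
    congr 1
    show (Matrix.reindexAlgEquiv F F e.symm (g : Mt t (r + r) F)) *ᵥ (x ∘ e) = _
    rw [Matrix.reindexAlgEquiv_apply, Matrix.reindex_apply, Matrix.submatrix_mulVec_equiv, Equiv.symm_symm]
    congr 1
    rw [Function.comp_assoc, Equiv.self_comp_symm, Function.comp_id]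
  have htr : ∀ (g : GL (Fin t → Fin (r + r)) F) x, ((ψ g : GL (Fin m ⊕ Fin m) F) : Matrix _ _ F) *ᵥ L x
      = L ((g : Mt t (r + r) F) *ᵥ x) := by
    intro g x
    show ((ψ₀ (TQ * g * TQ⁻¹) : GL (Fin m ⊕ Fin m) F) : Matrix (Fin m ⊕ Fin m) (Fin m ⊕ Fin m) F) *ᵥ L x = _
    rw [hL, hL, htr₀, CfsgLib.Geo.mul_mulVec, CfsgLib.Geo.mul_mulVec, CfsgLib.Geo.inv_mulVec_mulVec]
  have hgr : (TQ : Mt t (r + r) F)ᵀ * (tens fun _ => gramMatrix f₁) * (TQ : Mt t (r + r) F) = jt t r F := by
    show (tens fun _ => (Q : Matrix (Fin (r + r)) (Fin (r + r)) F))ᵀ * _ *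
      tens (fun _ => (Q : Matrix (Fin (r + r)) (Fin (r + r)) F)) = _
    rw [tens_transpose, tens_mul, tens_mul, jt]
    exact congrArg tens (funext fun _ => hQ)
  have hfm : ∀ x y, Cfsg.sympForm m F (L x) (L y) = c * om x y := by
    intro x y
    have e1 : ∀ u v : (Fin t → Fin (r + r)) → F,
        ∑ a, ∑ b, u a * (∏ i, gramMatrix f₁ (a i) (b i)) * id (v b) = u ⬝ᵥ ((tens fun _ => gramMatrix f₁) *ᵥ v) := by
      intro u v
      simp only [dotProduct, Matrix.mulVec, Finset.mul_sum, tens, Matrix.of_apply, id, mul_assoc]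
    rw [hL, hL, hL₀, hL₀, hform, e1, om, ← Matrix.dotProduct_mulVec, ← hgr, ← Matrix.mulVec_mulVec,
      ← Matrix.mulVec_mulVec, Matrix.dotProduct_mulVec x (TQ : Mt t (r + r) F)ᵀ, Matrix.vecMul_transpose]
  have hiso : ∀ g : GL (Fin t → Fin (r + r)) F, ψ g ∈ Cfsg.spGL m F ↔
      (g : Mt t (r + r) F)ᵀ * jt t r F * (g : Mt t (r + r) F) = jt t r F := by
    intro g
    have e1 : ∀ x y, om ((g : Mt t (r + r) F) *ᵥ x) ((g : Mt t (r + r) F) *ᵥ y) =
        x ⬝ᵥ (((g : Mt t (r + r) F)ᵀ * jt t r F * (g : Mt t (r + r) F)) *ᵥ y) := fun x y => by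
      rw [om, ← Matrix.dotProduct_mulVec, ← Matrix.mulVec_mulVec, ← Matrix.mulVec_mulVec,
        Matrix.dotProduct_mulVec x (g : Mt t (r + r) F)ᵀ, Matrix.vecMul_transpose]
    constructor
    · intro hg
      refine Matrix.ext fun a b => ?_
      have := SpTv.mem_spGL.1 hg (L (Pi.single a 1)) (L (Pi.single b 1))
      rw [htr, htr] at this
      change Cfsg.sympForm m F _ _ = Cfsg.sympForm m F _ _ at this
      rw [hfm, hfm, mul_right_inj' hc, e1, om, ← Matrix.dotProduct_mulVec] at this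
      simpa using this
    · intro hg
      refine SpTv.mem_spGL.2 fun u v => ?_
      obtain ⟨x, rfl⟩ := L.surjective u
      obtain ⟨y, rfl⟩ := L.surjective v
      rw [htr, htr]
      show Cfsg.sympForm m F _ _ = Cfsg.sympForm m F _ _
      rw [hfm, hfm, e1, hg, om, ← Matrix.dotProduct_mulVec]
  have hwr : tensorWreathSubgroup (r + r) t e P = (tensorWreathStandard (r + r) t F).map ψ.toMonoidHom := by
    have hψ₀ : tensorWreathSubgroup (r + r) t e P = (tensorWreathStandard (r + r) t F).map ψ₀.toMonoidHom := by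
      rw [tensorWreathSubgroup, Subgroup.map_map]; rfl
    rw [hψ₀]
    ext z
    constructor
    · rintro ⟨g, hg, rfl⟩
      refine ⟨TQ⁻¹ * g * TQ, mul_mem (mul_mem (inv_mem hTQm) hg) hTQm, ?_⟩
      show ψ₀ (TQ * (TQ⁻¹ * g * TQ) * TQ⁻¹) = ψ₀ g
      congr 1; group
    · rintro ⟨g, hg, rfl⟩
      exact ⟨TQ * g * TQ⁻¹, mul_mem (mul_mem hTQm hg) (inv_mem hTQm), rfl⟩
  refine isMaximalIn_of_key (fun hle => ?_) fun M hM hMI hMX => ?_
  · set v : Fin m ⊕ Fin m → F := Pi.single (Sum.inl ⟨0, hm⟩) 1 with hv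
    set φ := Matrix.J (Fin m) F *ᵥ v with hφdef
    have hφ : φ ⬝ᵥ v = 0 := by rw [dotProduct_comm]; exact CfsgLib.Symp.form_self v
    have hv0 : v ≠ 0 := by simp [hv]
    have hφ0 : φ ≠ 0 := fun h => by
      obtain ⟨x, hx⟩ := CfsgLib.Symp.exists_form_ne_zero hv0
      refine hx ?_
      rw [CfsgLib.Symp.form_swap, CfsgLib.Symp.form, ← hφdef, h, dotProduct_zero, neg_zero]
    have e1 : CfsgLib.Geo.tvec v φ hφ = SpTv.stv v 1 := gl_ext_mulVec fun x => by
      rw [SpTv.stv_mulVec, tvec_mulVec, one_mul, CfsgLib.Symp.form, dotProduct_comm, hφdef]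
    exact tvec_notMem_wreath (by omega) (by omega) (Or.inr ht3) e P hφ hv0 hφ0
      (hle (e1 ▸ SpTv.stv_mem v 1))
  by_contra hne
  set M' := M.comap ψ.toMonoidHom with hM'
  have hmem : ∀ g, g ∈ M' ↔ ψ g ∈ M := fun g => Iff.rfl
  have hin : ∀ g, g ∈ tensorWreathStandard (r + r) t F →
      (g : Mt t (r + r) F)ᵀ * jt t r F * (g : Mt t (r + r) F) = jt t r F → g ∈ M' := fun g h h' =>
    hM ⟨hwr ▸ Subgroup.mem_map_of_mem ψ.toMonoidHom h, (hiso g).2 h'⟩
  have hbad : SpBad M' := by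
    refine ⟨fun g hg => (hiso g).1 (hMI ((hmem g).1 hg)), fun i h hh => ?_, fun σ => ?_, fun hfull => hne ?_⟩
    · let v : GL (Fin (r + r)) F := ⟨h, spInv h, hh.mul_spInv, hh.spInv_mul⟩
      refine ⟨slotU i v, hin _ (slotU_mem_wreath i v) ?_, rfl⟩
      rw [slotU_val, mul_jm_mul_update]
      show tens (Function.update (fun _ => jm r F) i (hᵀ * jm r F * h)) = _
      rw [hh, Function.update_eq_self_iff.2 rfl]; rfl
    · refine ⟨permUnit (r + r) σ, hin _ (Subgroup.subset_closure (Or.inr ⟨σ, fun _ _ => rfl⟩)) ?_, rfl⟩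
      show (permMat (r + r) σ)ᵀ * jt t r F * permMat (r + r) σ = _
      rw [permMat_transpose, jt, permMat_mul_tens, mul_assoc]
      conv_lhs => arg 2; arg 2; rw [← Equiv.symm_symm σ]
      rw [permMat_mul_inv, mul_one]
    · refine SpTv.spGL_le_of_full fun v a => ?_
      obtain ⟨x, rfl⟩ := L.surjective v
      obtain ⟨g, hg, hgv⟩ := hfull x (-(a * c))
      have e1 : SpTv.stv (L x) a = ψ g := gl_ext_mulVec fun y => by
        obtain ⟨y, rfl⟩ := L.surjective y
        rw [SpTv.stv_mulVec, htr, hgv, tv_mulVec, map_add, map_smul]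
        congr 2
        show a * Cfsg.sympForm m F (L y) (L x) = _
        rw [hfm, om_swap ht x y]
        ring
      rw [e1]
      exact hg
  refine hMX fun g hg => ?_
  obtain ⟨x, rfl⟩ := ψ.surjective g
  rw [hwr]
  exact Subgroup.mem_map_of_mem ψ.toMonoidHom
    (hbad.stab_le h2 ht hq hs hd ∅ ⟨hg, fun _ h => absurd h (Finset.notMem_empty _)⟩)

end CfsgLib.Geo.TensorPow
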